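import Groth.Agent.CliffIndex.Lemmas
import Groth.Agent.FunFld1.Generators
import Groth.Agent.S11020

/-!
General position for linear series on curves in characteristic zero: a birational series stays
birational after imposing a general base point, and `ℓ(2D) ≥ 3r`.
-/

set_option linter.style.haveILetI false
set_option linter.unusedSectionVars false

namespace Groth.CliffIndex.GenPos

open WithZero FunFld Groth.FunFld1

variable {k K : Type*} [Field k] [Field K] [Algebra k K]

/-- Ratios of members of `L(D)`. -/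
def ratios (D : Divisor k K) : Set K := {z | ∃ u ∈ L D, ∃ v ∈ L D, z = u / v}

/-- The series of `D` is birational. -/
def Gen (D : Divisor k K) : Prop := IntermediateField.adjoin k (ratios D) = ⊤

/-- No base place. -/
def Bpf (D : Divisor k K) : Prop := ∀ P : Place k K, ell (D - Finsupp.single P 1) < ell D

/-- `P` is separated from every place, including itself. -/
def Sep (D : Divisor k K) (P : Place k K) : Prop :=
  ∀ Q : Place k K, ell (D - Finsupp.single P 1 - Finsupp.single Q 1) + 2 = ell D

theorem mem_sub_single {D : Divisor k K} {P : Place k K} {v : K} (hv : v ∈ L D)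
    (hne : P.1 v ≠ exp (D P)) : v ∈ L (D - Finsupp.single P 1) := fun Q => by
  by_cases hQ : P = Q
  · subst hQ
    rw [Finsupp.sub_apply, Finsupp.single_eq_same]
    rcases eq_or_ne v 0 with rfl | h0
    · rw [map_zero]; exact zero_le
    · have h1 := lt_of_le_of_ne (hv P) hne
      rw [val_eq_exp_neg_ord P h0, exp_lt_exp] at h1
      rw [val_le_exp_iff P h0]
      omega
  · rw [Finsupp.sub_apply, Finsupp.single_eq_of_ne (Ne.symm hQ), sub_zero]
    exact hv Q

variable [IsAlgClosed k] (hK : IsFunctionField k K)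
include hK

local notation "hF" => IsFF.of_isFunctionField hK

theorem exists_max {D : Divisor k K} {P : Place k K} (hb : ell (D - Finsupp.single P 1) < ell D) :
    ∃ v ∈ L D, P.1 v = exp (D P) := by
  by_contra hno
  push Not at hno
  haveI := (hF).finiteDimensional_L (D - Finsupp.single P 1)
  exact hb.not_ge (Submodule.finrank_mono fun v hv => mem_sub_single hv (hno v hv))

theorem exists_max₂ {D : Divisor k K} (hb : Bpf D) (P Q : Place k K) :
    ∃ v ∈ L D, P.1 v = exp (D P) ∧ Q.1 v = exp (D Q) := by
  obtain ⟨a, ha, haP⟩ := exists_max hK (hb P)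
  obtain ⟨b, hb', hbQ⟩ := exists_max hK (hb Q)
  by_cases h1 : Q.1 a = exp (D Q)
  · exact ⟨a, ha, haP, h1⟩
  by_cases h2 : P.1 b = exp (D P)
  · exact ⟨b, hb', h2, hbQ⟩
  refine ⟨a + b, add_mem ha hb', ?_, ?_⟩
  · rw [Valuation.map_add_eq_of_lt_left, haP]
    exact haP ▸ lt_of_le_of_ne (hb' P) h2
  · rw [Valuation.map_add_eq_of_lt_right, hbQ]
    exact hbQ ▸ lt_of_le_of_ne (ha Q) h1

theorem exists_sub_smul {D : Divisor k K} {P : Place k K} {w u : K} (hu : u ∈ L D) (hw : w ∈ L D)
    (hwP : P.1 w = exp (D P)) : ∃ c : k, u - c • w ∈ L (D - Finsupp.single P 1) := by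
  have hw0 : w ≠ 0 := ne_zero_of_val_eq hwP
  have hr : P.1 (u / w) ≤ 1 := by
    rw [map_div₀, hwP]; exact (div_le_one₀ exp_pos).mpr (hu P)
  obtain ⟨c, hc⟩ := exists_const_sub_lt_one (deg_eq_one_of_isAlgClosed hF P) hr
  refine ⟨c, mem_sub_single (sub_mem hu (Submodule.smul_mem _ c hw)) (ne_of_lt ?_)⟩
  rw [Algebra.smul_def, show u - algebraMap k K c * w = (u / w - algebraMap k K c) * w by field_simp,
    map_mul, hwP]
  exact mul_lt_of_lt_one_left exp_pos hc

/-- A nonzero Riemann–Roch space has only finitely many base places. -/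
theorem finite_base {A : Divisor k K} (hA : 1 ≤ ell A) :
    {S : Place k K | ¬ ell (A - Finsupp.single S 1) < ell A}.Finite := by
  have hne : L A ≠ ⊥ := fun h => by unfold ell at hA; rw [h, finrank_bot] at hA; omega
  obtain ⟨v, hv, hv0⟩ := Submodule.exists_mem_ne_zero_of_ne_bot hne
  refine ((A + FunFld.div k v).support.finite_toSet).subset fun S hS => ?_
  rw [Finset.mem_coe, Finsupp.mem_support_iff, Finsupp.add_apply, (hF).div_apply]
  intro h0
  refine hS ?_
  haveI := (hF).finiteDimensional_L A
  refine Submodule.finrank_lt_finrank_of_lt (lt_of_le_not_ge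
    (L_mono (sub_le_self _ (Finsupp.single_nonneg.mpr zero_le_one))) fun hle => ?_)
  have h := hle hv S
  rw [val_le_exp_iff S hv0, Finsupp.sub_apply, Finsupp.single_eq_same] at h
  omega

/-- A birational series separates almost every place from all places. -/
theorem finite_not_sep {D : Divisor k K} (hb : Bpf D) (hgen : Gen D) :
    {P : Place k K | ¬ Sep D P}.Finite := by
  classical
  have hd : ∀ P : Place k K, P.deg = 1 := deg_eq_one_of_isAlgClosed hF
  obtain ⟨P₀⟩ := (hF).nonempty_place
  obtain ⟨w, hwD, hwP₀⟩ := exists_max hK (hb P₀)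
  have hw : w ≠ 0 := ne_zero_of_val_eq hwP₀
  set T : Set K := (fun u => u / w) '' (L D : Set K)
  have hT : IntermediateField.adjoin k T = ⊤ := by
    refine top_le_iff.mp (hgen.ge.trans (IntermediateField.adjoin_le_iff.mpr ?_))
    rintro _ ⟨u, hu, v, hv, rfl⟩
    have hmem : ∀ u ∈ L D, u / w ∈ IntermediateField.adjoin k T := fun u hu =>
      IntermediateField.subset_adjoin k T ⟨u, hu, rfl⟩
    rw [show u / v = (u / w) / (v / w) by field_simp]
    exact div_mem (hmem u hu) (hmem v hv)
  -- a very ample auxiliary divisor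
  set M : Divisor k K := Finsupp.single P₀ (2 * (genus k K : ℤ) + 1)
  haveI := (hF).finiteDimensional_L M
  have hMd : M.deg = 2 * (genus k K : ℤ) + 1 := by rw [deg_single, hd]; simp
  let z := Module.finBasis k (L M)
  have hfrac : ∀ i, ∃ a ∈ Algebra.adjoin k T, ∃ b ∈ Algebra.adjoin k T, ((z i : L M) : K) = a / b := fun i =>
    IntermediateField.mem_adjoin_iff_div.mp (hT.ge trivial)
  choose a ha b hb' hab using hfrac
  have hb0 : ∀ i, b i ≠ 0 := fun i h => by
    have := hab i
    rw [h, div_zero] at this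
    exact z.ne_zero i (Subtype.ext this)
  refine (((D.support ∪ (FunFld.div k w).support ∪ {P₀}) ∪
    Finset.univ.biUnion fun i => (FunFld.div k (b i)).support).finite_toSet).subset fun P hP => ?_
  by_contra hS
  simp only [Finset.coe_union, Set.mem_union, Finset.mem_coe, Finsupp.mem_support_iff,
    Finset.mem_singleton, Finset.mem_biUnion, Finset.mem_univ, true_and, not_or, not_not,
    not_exists, Finset.coe_singleton, Set.mem_singleton_iff] at hS
  obtain ⟨⟨⟨hDP, hwP⟩, hPP⟩, hbP⟩ := hS
  rw [(hF).div_apply] at hwP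
  simp only [(hF).div_apply] at hbP
  have hwmax : P.1 w = exp (D P) := by rw [hDP, val_eq_exp_neg_ord P hw, hwP, neg_zero]
  simp only [Sep, Set.mem_setOf_eq, not_forall] at hP
  obtain ⟨Q, hQ⟩ := hP
  have h1 := ell_le_single_add hK D P
  have h2 := hb P
  have h3 := ell_le_single_add hK (D - Finsupp.single P 1) Q
  have h4 := ell_single_sub_le hK (D - Finsupp.single P 1) Q
  haveI := (hF).finiteDimensional_L (D - Finsupp.single P 1)
  have heq : L (D - Finsupp.single P 1 - Finsupp.single Q 1) = L (D - Finsupp.single P 1) :=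
    Submodule.eq_of_le_of_finrank_eq (L_mono (sub_le_self _ (Finsupp.single_nonneg.mpr zero_le_one)))
      (by unfold ell at *; omega)
  have hwQ : Q.1 w = exp (D Q) := by
    by_contra hne
    refine (hb Q).not_ge ?_
    haveI := (hF).finiteDimensional_L (D - Finsupp.single Q 1)
    refine Submodule.finrank_mono fun v hv => ?_
    obtain ⟨c, hc⟩ := exists_sub_smul hK hv hwD hwmax
    rw [← heq] at hc
    have hc' : v - c • w ∈ L (D - Finsupp.single Q 1) :=
      L_mono (by rw [sub_right_comm]; exact sub_le_self _ (Finsupp.single_nonneg.mpr zero_le_one)) hc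
    have := add_mem hc' (Submodule.smul_mem _ c (mem_sub_single hwD hne))
    rwa [sub_add_cancel] at this
  set δ : Divisor k K := Finsupp.single P 1 + Finsupp.single Q 1
  have hδ : ∀ R, R = P ∨ R = Q → 1 ≤ δ R := fun R hR => by
    rcases hR with rfl | rfl <;> simp only [δ, Finsupp.add_apply, Finsupp.single_apply] <;> split_ifs <;> omega
  have hsmall : ∀ R, R = P ∨ R = Q → exp (-δ R) < (1 : ℤᵐ⁰) := fun R hR =>
    exp_lt_one.mpr (by have := hδ R hR; omega)
  -- the functions with equal values at `P` and `Q`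
  let Tal : Subalgebra k K :=
    { carrier := {y | ∃ c : k, ∀ R, R = P ∨ R = Q → R.1 (y - algebraMap k K c) ≤ exp (-δ R)}
      algebraMap_mem' := fun c => ⟨c, fun R _ => by simp⟩
      add_mem' := fun {y₁ y₂} ⟨c₁, h₁⟩ ⟨c₂, h₂⟩ => ⟨c₁ + c₂, fun R hR => by
        rw [map_add, add_sub_add_comm]
        exact (R.1.map_add _ _).trans (max_le (h₁ R hR) (h₂ R hR))⟩
      mul_mem' := fun {y₁ y₂} ⟨c₁, h₁⟩ ⟨c₂, h₂⟩ => ⟨c₁ * c₂, fun R hR => by
        have hy : R.1 y₁ ≤ 1 := by
          rw [show y₁ = (y₁ - algebraMap k K c₁) + algebraMap k K c₁ by ring]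
          exact (R.1.map_add _ _).trans (max_le ((h₁ R hR).trans (hsmall R hR).le) (R.2.1 c₁))
        rw [map_mul, show y₁ * y₂ - algebraMap k K c₁ * algebraMap k K c₂ =
          y₁ * (y₂ - algebraMap k K c₂) + (y₁ - algebraMap k K c₁) * algebraMap k K c₂ by ring]
        refine (R.1.map_add _ _).trans (max_le ?_ ?_) <;> rw [map_mul]
        · exact (mul_le_of_le_one_left' hy).trans (h₂ R hR)
        · exact (mul_le_of_le_one_right' (R.2.1 c₂)).trans (h₁ R hR)⟩ }
  have hTal : Algebra.adjoin k T ≤ Tal := Algebra.adjoin_le (by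
    rintro _ ⟨u, hu, rfl⟩
    obtain ⟨c, hc⟩ := exists_sub_smul hK hu hwD hwmax
    rw [← heq] at hc
    refine ⟨c, fun R hR => ?_⟩
    have hwR : R.1 w = exp (D R) := by rcases hR with rfl | rfl <;> assumption
    have := hc R
    rw [show u / w - algebraMap k K c = (u - c • w) / w by rw [Algebra.smul_def]; field_simp,
      map_div₀, hwR, div_le_iff₀ exp_pos, ← exp_add]
    refine this.trans_eq ?_
    congr 1
    simp only [δ, Finsupp.sub_apply, Finsupp.add_apply]
    ring)
  have hzT : ∀ i, ((z i : L M) : K) ∈ Tal := fun i => by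
    obtain ⟨cb, hcb⟩ := hTal (hb' i)
    obtain ⟨ca, hca⟩ := hTal (ha i)
    have hbPv : P.1 (b i) = 1 := by rw [val_eq_exp_neg_ord P (hb0 i), hbP i, neg_zero, exp_zero]
    have hcb0 : cb ≠ 0 := fun h => by
      have := (hcb P (Or.inl rfl)).trans_lt (hsmall P (Or.inl rfl))
      rw [h, map_zero, sub_zero, hbPv] at this
      exact lt_irrefl _ this
    refine ⟨ca / cb, fun R hR => ?_⟩
    have hbR : R.1 (b i) = 1 := by
      rw [show b i = algebraMap k K cb + (b i - algebraMap k K cb) by ring,
        Valuation.map_add_eq_of_lt_left, val_algebraMap R hcb0]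
      rw [val_algebraMap R hcb0]
      exact (hcb R hR).trans_lt (hsmall R hR)
    have hb0' := hb0 i
    have hcb0' : algebraMap k K cb ≠ 0 := (map_ne_zero _).mpr hcb0
    rw [hab i, show a i / b i - algebraMap k K (ca / cb) =
      ((a i - algebraMap k K ca) - algebraMap k K (ca / cb) * (b i - algebraMap k K cb)) / b i by
        rw [map_div₀]; field_simp; ring, map_div₀, hbR, div_one]
    refine (R.1.map_sub _ _).trans (max_le (hca R hR) ?_)
    rw [map_mul]
    exact (mul_le_of_le_one_left' (R.2.1 _)).trans (hcb R hR)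
  have hMnn : 0 ≤ M := Finsupp.single_nonneg.mpr (by positivity)
  set M' := M - Finsupp.single P 1 - Finsupp.single Q 1 with hM'
  haveI := (hF).finiteDimensional_L M'
  have hone : (1 : K) ∈ L M := fun R => by
    rw [map_one, ← exp_zero, exp_le_exp]; exact hMnn R
  have hle : L M ≤ L M' ⊔ Submodule.span k {(1 : K)} := by
    intro y hy
    have hyT : y ∈ Tal := by
      have hmem : (⟨y, hy⟩ : L M) ∈ Submodule.comap (L M).subtype (Subalgebra.toSubmodule Tal) := by
        rw [← z.sum_repr ⟨y, hy⟩]
        exact Submodule.sum_mem _ fun i _ => Submodule.smul_mem _ _ (hzT i)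
      exact hmem
    obtain ⟨c, hc⟩ := hyT
    refine Submodule.mem_sup.mpr ⟨y - c • 1, ?_, c • 1,
      Submodule.smul_mem _ c (Submodule.mem_span_singleton_self _), sub_add_cancel _ _⟩
    have hyc : y - c • (1 : K) ∈ L M := sub_mem hy (Submodule.smul_mem _ c hone)
    intro R
    rw [hM', sub_sub]
    by_cases hR : R = P ∨ R = Q
    · rw [Algebra.smul_def, mul_one]
      refine (hc R hR).trans (exp_le_exp.mpr ?_)
      have := hMnn R
      simp only [Finsupp.coe_zero, Pi.zero_apply] at this
      show -δ R ≤ (M - δ) R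
      rw [Finsupp.sub_apply]; omega
    · push Not at hR
      rw [Finsupp.sub_apply, Finsupp.add_apply, Finsupp.single_eq_of_ne hR.1,
        Finsupp.single_eq_of_ne hR.2, add_zero, sub_zero]
      exact hyc R
  have h5 := Submodule.finrank_mono hle
  have h6 := Submodule.finrank_add_le_finrank_add_finrank (L M') (Submodule.span k {(1 : K)})
  have h7 := finrank_span_le_card (R := k) ({(1 : K)} : Set K)
  simp only [Set.toFinset_singleton, Finset.card_singleton] at h7
  have h8 := ell_eq_of_deg_ge hK (D := M) (by omega)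
  have hM'd : M'.deg = M.deg - 2 := by rw [hM', deg_sub_single hK, deg_sub_single hK]; ring
  have h9 := ell_eq_of_deg_ge hK (D := M') (by omega)
  unfold ell at *
  omega

variable [CharZero k]

/-- In characteristic zero a nonconstant function is almost everywhere a parameter. -/
theorem finite_not_simple {t : K} (ht : Transcendental k t) :
    {R : Place k K | ∃ c : k, R.1 (t - algebraMap k K c) ≤ exp (-2)}.Finite := by
  haveI := (hF).finiteDimensional ht
  haveI : CharZero (IntermediateField.adjoin k ({t} : Set K)) :=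
    charZero_of_injective_algebraMap (algebraMap k _).injective
  haveI : Algebra.IsSeparable (IntermediateField.adjoin k ({t} : Set K)) K := inferInstance
  refine (Groth.Agent.S11020.result k (IntermediateField.adjoin k ({t} : Set K)) K
    (isFunctionField_adjoin ht)).subset fun R hR hsur => ?_
  obtain ⟨c, hc⟩ := hR
  have h1 := val_sub_eq_of_surjective (c := c) (hc.trans_lt (exp_lt_one.mpr (by norm_num))) hsur
  rw [h1, exp_le_exp] at hc
  omega

/-- A general projection of a birational series of dimension at least three is birational. -/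
theorem exists_gen_sub {D : Divisor k K} (hb : Bpf D) (hgen : Gen D) (h4 : 4 ≤ ell D)
    (T : Set (Place k K)) (hT : T.Finite) :
    ∃ P, P ∉ T ∧ Sep D P ∧ Gen (D - Finsupp.single P 1) := by
  classical
  by_contra hno
  push Not at hno
  haveI : Infinite (Place k K) := Groth.CurveBridge.infinite_place hF
  have hd : ∀ P : Place k K, P.deg = 1 := deg_eq_one_of_isAlgClosed hF
  obtain ⟨Q, hQ⟩ := (hT.union (finite_not_sep hK hb hgen)).infinite_compl.nonempty
  simp only [Set.mem_compl_iff, Set.mem_union, Set.mem_setOf_eq, not_or, not_not] at hQ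
  obtain ⟨-, hQs⟩ := hQ
  set E₂ := D - Finsupp.single Q 1 - Finsupp.single Q 1 with hE₂
  have hE₂l : ell E₂ + 2 = ell D := hQs Q
  haveI := (hF).finiteDimensional_L E₂
  -- a function of the projection from the tangent line
  let bE : Module.Basis (Fin (ell E₂)) k (L E₂) := Module.finBasis k (L E₂)
  let u₀ : K := (bE ⟨0, by omega⟩ : L E₂)
  let v₀ : K := (bE ⟨1, by omega⟩ : L E₂)
  have hv₀ : v₀ ≠ 0 := fun h => bE.ne_zero _ (Subtype.ext h)
  have ht : Transcendental k (u₀ / v₀) := fun halg => by
    obtain ⟨c, hc⟩ := hK.2 _ halg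
    have he : u₀ = c • v₀ := by rw [Algebra.smul_def, hc, div_mul_cancel₀ _ hv₀]
    have h1 := congrArg (fun y => bE.repr y ⟨0, by omega⟩)
      (show (bE ⟨0, by omega⟩ : L E₂) = c • bE ⟨1, by omega⟩ from Subtype.ext he)
    simp [Finsupp.single_apply, Fin.ext_iff] at h1
  set S₁ : Set (Place k K) := {R | ∃ c : k, R.1 (u₀ / v₀ - algebraMap k K c) ≤ exp (-2)} ∪
    ((E₂.support ∪ (FunFld.div k v₀).support ∪ {Q} : Finset (Place k K)) : Set (Place k K))
  have hS₁ : S₁.Finite := (finite_not_simple hK ht).union (Finset.finite_toSet _)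
  have hQR : ∀ R, ell (D - Finsupp.single Q 1 - Finsupp.single R 1) + 2 = ell D := hQs
  obtain ⟨S, hS⟩ := (((hT.union (finite_not_sep hK hb hgen)).union
    (finite_base hK (A := E₂) (by omega))).union (hS₁.biUnion fun R _ =>
      finite_base hK (A := D - Finsupp.single Q 1 - Finsupp.single R 1)
        (by have := hQR R; omega))).infinite_compl.nonempty
  simp only [Set.mem_compl_iff, Set.mem_union, Set.mem_setOf_eq, Set.mem_iUnion, not_or, not_not,
    not_exists, exists_prop, not_and] at hS
  obtain ⟨⟨⟨hST, hSs⟩, hSE₂⟩, hSR⟩ := hS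
  set E := D - Finsupp.single S 1 with hE
  have hEl : ell E + 1 = ell D := by
    have := ell_le_single_add hK D S
    have := hb S
    rw [hE]; omega
  have hEb : Bpf E := fun R => by
    have := hSs R
    rw [hE] at hEl ⊢
    omega
  set F := IntermediateField.adjoin k (ratios E) with hFdef
  have hFne : F ≠ ⊤ := hno S hST hSs
  obtain ⟨s, hs, hsQ⟩ := exists_max hK (hEb Q)
  have hs0 : s ≠ 0 := ne_zero_of_val_eq hsQ
  have hEQ : ell (E - Finsupp.single Q 1) + 2 = ell D := hSs Q
  have hEQQ : ell (E - Finsupp.single Q 1 - Finsupp.single Q 1) + 3 = ell D := by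
    have e : E - Finsupp.single Q 1 - Finsupp.single Q 1 = E₂ - Finsupp.single S 1 := by
      rw [hE, hE₂]; abel
    have := ell_le_single_add hK E₂ S
    rw [e]; omega
  obtain ⟨v, hv, hvQ⟩ := exists_max hK
    (show ell (E - Finsupp.single Q 1 - Finsupp.single Q 1) < ell (E - Finsupp.single Q 1) by omega)
  have hvE : v ∈ L E := L_mono (sub_le_self _ (Finsupp.single_nonneg.mpr zero_le_one)) hv
  have hz1 : Q.1 (v / s) = exp (-1) := by
    rw [map_div₀, hvQ, hsQ, Finsupp.sub_apply, Finsupp.single_eq_same, div_eq_mul_inv, ← exp_neg,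
      ← exp_add]
    congr 1; ring
  have hzF : v / s ∈ F := IntermediateField.subset_adjoin k _ ⟨v, hvE, s, hs, rfl⟩
  have hztr : Transcendental k (v / s) := fun halg => by
    obtain ⟨c, hc⟩ := hK.2 _ halg
    rcases eq_or_ne c 0 with rfl | hc0
    · rw [← hc, map_zero, map_zero] at hz1; exact exp_ne_zero hz1.symm
    · rw [← hc, val_algebraMap Q hc0, eq_comm, Groth.FunFld1.exp_eq_one] at hz1; omega
  obtain ⟨hFF, hfd⟩ := Groth.FunFld1.IsFF.intermediateField hF F hzF hztr
  haveI := hfd
  have hdeg : 2 ≤ Module.finrank F K := by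
    have h1 : Module.finrank F K ≠ 1 := fun h => hFne (IntermediateField.finrank_eq_one_iff_eq_top.mp h)
    have h2 := Module.finrank_pos (R := F) (M := K)
    omega
  obtain ⟨p, hp⟩ := hFF.exists_isOver (K' := K) Q
  have heQ : ramIdx Q p = 1 := by
    have h1 := overWith_ord (isOverWith_ramIdx hp) ⟨v / s, hzF⟩
    have h2 : Q.ord (v / s) = 1 := by rw [ord_eq_of_val_eq Q hz1]; norm_num
    change Q.ord (v / s) = _ at h1
    rw [h2] at h1
    have := Int.eq_one_of_mul_eq_one_right (Int.natCast_nonneg _) h1.symm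
    exact_mod_cast this
  obtain ⟨R, hR, hRQ⟩ : ∃ R, IsOver R p ∧ R ≠ Q := by
    by_contra! hall
    have hsum := hFF.sum_ramIdx_deg (K' := K) p
    have habove : (hFF.above p : Finset (Place k K)) = {Q} := Finset.ext fun R => by
      rw [hFF.mem_above, Finset.mem_singleton]
      exact ⟨hall R, fun h => h ▸ hp⟩
    rw [habove, Finset.sum_singleton, heQ, hd, mul_one] at hsum
    have := hFF.deg_pos p
    have := Nat.mul_le_mul hdeg this
    omega
  obtain ⟨σ, hσ, hσQ, hσR⟩ := exists_max₂ hK hEb Q R
  have hσ0 : σ ≠ 0 := ne_zero_of_val_eq hσQ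
  have hRe := isOverWith_ramIdx hR
  have he := overWith_pos hRe
  -- vanishing at `Q` forces the same vanishing at `R`
  have key : ∀ (j : ℤ) (y : K), 0 ≤ j → y ∈ L E → Q.1 y ≤ exp (E Q - j) → R.1 y ≤ exp (E R - j) := by
    intro j y hj hy hyQ
    rcases eq_or_ne y 0 with rfl | hy0
    · rw [map_zero]; exact zero_le
    have hyF : y / σ ∈ F := IntermediateField.subset_adjoin k _ ⟨y, hy, σ, hσ, rfl⟩
    have hyQ' := hyQ
    rw [val_le_exp_iff Q hy0] at hyQ'
    rw [val_le_exp_iff R hy0]
    have oQ := overWith_ord (isOverWith_ramIdx hp) ⟨y / σ, hyF⟩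
    have oR := overWith_ord hRe ⟨y / σ, hyF⟩
    change Q.ord (y / σ) = _ at oQ
    change R.ord (y / σ) = _ at oR
    generalize p.ord (⟨y / σ, hyF⟩ : F) = n at oQ oR
    rw [heQ, Nat.cast_one, one_mul] at oQ
    rw [div_eq_mul_inv, ord_mul Q hy0 (inv_ne_zero hσ0), ord_inv, ord_eq_of_val_eq Q hσQ] at oQ
    rw [div_eq_mul_inv, ord_mul R hy0 (inv_ne_zero hσ0), ord_inv, ord_eq_of_val_eq R hσR] at oR
    have hpo : j ≤ n := by omega
    have := le_mul_of_one_le_left (hj.trans hpo) (show (1 : ℤ) ≤ ramIdx R p by exact_mod_cast he)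
    omega
  have hsub1 : L (E - Finsupp.single Q 1) ≤ L (D - Finsupp.single Q 1 - Finsupp.single R 1 - Finsupp.single S 1) := by
    intro y hy P
    rw [show D - Finsupp.single Q 1 - Finsupp.single R 1 - Finsupp.single S 1 =
      E - Finsupp.single Q 1 - Finsupp.single R 1 by rw [hE]; abel]
    by_cases hP : R = P
    · subst hP
      rw [Finsupp.sub_apply, Finsupp.sub_apply, Finsupp.single_eq_of_ne hRQ, Finsupp.single_eq_same, sub_zero]
      refine key 1 y zero_le_one (L_mono (sub_le_self _ (Finsupp.single_nonneg.mpr zero_le_one)) hy) ?_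
      have := hy Q
      rwa [Finsupp.sub_apply, Finsupp.single_eq_same] at this
    · rw [Finsupp.sub_apply (E - _), Finsupp.single_eq_of_ne (Ne.symm hP), sub_zero]
      exact hy P
  haveI := (hF).finiteDimensional_L (D - Finsupp.single Q 1 - Finsupp.single R 1 - Finsupp.single S 1)
  have h1 : ell (E - Finsupp.single Q 1) ≤ ell (D - Finsupp.single Q 1 - Finsupp.single R 1 - Finsupp.single S 1) :=
    Submodule.finrank_mono hsub1
  have h2 := hQR R
  have hR₁ : R ∉ S₁ := fun hmem => by have := hSR R hmem; omega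
  simp only [S₁, Set.mem_union, Set.mem_setOf_eq, Finset.mem_coe, Finset.mem_union,
    Finsupp.mem_support_iff, Finset.mem_singleton, not_or, not_exists, not_not] at hR₁
  obtain ⟨hsimple, ⟨hER, hv₀R⟩, -⟩ := hR₁
  rw [(hF).div_apply] at hv₀R
  have hsub2 : L (E - Finsupp.single Q 1 - Finsupp.single Q 1) ≤
      L (E₂ - Finsupp.single R 1 - Finsupp.single R 1) := by
    intro y hy P
    have hyE : y ∈ L E := L_mono ((sub_le_self _ (Finsupp.single_nonneg.mpr zero_le_one)).trans
      (sub_le_self _ (Finsupp.single_nonneg.mpr zero_le_one))) hy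
    by_cases hP : R = P
    · subst hP
      have h := key 2 y zero_le_two hyE (by
        have := hy Q
        rw [Finsupp.sub_apply, Finsupp.sub_apply, Finsupp.single_eq_same] at this
        convert this using 2; ring)
      refine h.trans (exp_le_exp.mpr ?_)
      simp only [hE, hE₂, Finsupp.sub_apply, Finsupp.single_eq_same, Finsupp.single_eq_of_ne hRQ]
      by_cases hSR' : R = S
      · subst hSR'; rw [Finsupp.single_eq_same]; omega
      · rw [Finsupp.single_eq_of_ne hSR']; omega
    · refine (hy P).trans (exp_le_exp.mpr ?_)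
      simp only [hE, hE₂, Finsupp.sub_apply, Finsupp.single_eq_of_ne (Ne.symm hP)]
      have : (0 : ℤ) ≤ Finsupp.single S (1 : ℤ) P := Finsupp.single_nonneg.mpr zero_le_one P
      omega
  haveI := (hF).finiteDimensional_L (E₂ - Finsupp.single R 1 - Finsupp.single R 1)
  have h3 : ell (E - Finsupp.single Q 1 - Finsupp.single Q 1) ≤
      ell (E₂ - Finsupp.single R 1 - Finsupp.single R 1) := Submodule.finrank_mono hsub2
  -- but `R` is unramified for the projection from the tangent line
  have hu : u₀ ∈ L E₂ := (bE _).2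
  have hv : v₀ ∈ L E₂ := (bE _).2
  have hv₀max : R.1 v₀ = exp (E₂ R) := by rw [hER, val_eq_exp_neg_ord R hv₀, hv₀R, neg_zero]
  obtain ⟨c, hc⟩ := exists_sub_smul hK hu hv hv₀max
  have hdrop1 : ell (E₂ - Finsupp.single R 1) < ell E₂ := by
    haveI := (hF).finiteDimensional_L E₂
    refine Submodule.finrank_lt_finrank_of_lt (lt_of_le_not_ge
      (L_mono (sub_le_self _ (Finsupp.single_nonneg.mpr zero_le_one))) fun hle => ?_)
    have := hle hv R
    rw [hv₀max, exp_le_exp, Finsupp.sub_apply E₂, Finsupp.single_eq_same] at this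
    omega
  have hdrop2 : ell (E₂ - Finsupp.single R 1 - Finsupp.single R 1) < ell (E₂ - Finsupp.single R 1) := by
    haveI := (hF).finiteDimensional_L (E₂ - Finsupp.single R 1)
    refine Submodule.finrank_lt_finrank_of_lt (lt_of_le_not_ge
      (L_mono (sub_le_self _ (Finsupp.single_nonneg.mpr zero_le_one))) fun hle => hsimple c ?_)
    have := hle hc R
    rw [show u₀ / v₀ - algebraMap k K c = (u₀ - c • v₀) / v₀ by rw [Algebra.smul_def]; field_simp,
      map_div₀, hv₀max, div_le_iff₀ exp_pos, ← exp_add]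
    refine this.trans_eq ?_
    congr 1
    simp only [Finsupp.sub_apply, Finsupp.single_eq_same]
    ring
  omega

/-- Castelnuovo's bound `ℓ(2D) ≥ 3r` for a birational series. -/
theorem ell_two_mul {D : Divisor k K} (hb : Bpf D) (hgen : Gen D) (h3 : 3 ≤ ell D)
    (hle : ell D ≤ genus k K + 2) : 3 * ell D ≤ ell (2 • D) + 3 := by
  classical
  obtain ⟨C, hC⟩ := exists_isCanonical hK
  have hdC := Groth.FunFld1.deg_canonical hK hC
  have hstep : ∀ (A : Divisor k K) (P : Place k K), Bpf (D - A) →
      ell (2 • D - A - Finsupp.single P 1) < ell (2 • D - A) := by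
    intro A P hA
    obtain ⟨x, hx, hxP⟩ := exists_max hK (hA P)
    obtain ⟨y, hy, hyP⟩ := exists_max hK (hb P)
    haveI := (hF).finiteDimensional_L (2 • D - A)
    refine Submodule.finrank_lt_finrank_of_lt (lt_of_le_not_ge
      (L_mono (sub_le_self _ (Finsupp.single_nonneg.mpr zero_le_one))) fun hle => ?_)
    have hxy : x * y ∈ L (2 • D - A) := fun R => by
      rw [map_mul, show 2 • D - A = D - A + D by rw [two_nsmul]; abel, Finsupp.add_apply, exp_add]
      exact mul_le_mul' (hx R) (hy R)
    have := hle hxy P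
    rw [map_mul, hxP, hyP, ← exp_add, exp_le_exp] at this
    simp only [Finsupp.sub_apply, Finsupp.single_eq_same, two_nsmul, Finsupp.add_apply] at this
    omega
  have chain : ∀ j : ℕ, j + 3 ≤ ell D → ∃ A : Divisor k K, A.deg = j ∧ ell A = 1 ∧
      ell (D - A) + j = ell D ∧ Bpf (D - A) ∧ Gen (D - A) ∧ ell (2 • D - A) + j ≤ ell (2 • D) := by
    intro j
    induction j with
    | zero =>
      exact fun _ => ⟨0, deg_zero, ell_zero_eq hK, by simp, by rwa [sub_zero], by rwa [sub_zero], by simp⟩
    | succ j ih =>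
      intro hj
      obtain ⟨A, hAd, hA1, hAl, hAb, hAg, hA2⟩ := ih (by omega)
      have hr := Groth.FunFld1.riemann_roch hK hC A
      obtain ⟨P, hPT, hPs, hPg⟩ := exists_gen_sub hK hAb hAg (by omega) _
        (finite_base hK (A := C - A) (by omega))
      simp only [Set.mem_setOf_eq, not_not] at hPT
      refine ⟨A + Finsupp.single P 1, ?_, ?_, ?_, fun R => ?_, ?_, ?_⟩
      · rw [deg_add, deg_single, deg_eq_one_of_isAlgClosed hF P, hAd]; push_cast; ring
      · have h1 := Groth.FunFld1.riemann_roch hK hC (A + Finsupp.single P 1)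
        rw [deg_add, deg_single, deg_eq_one_of_isAlgClosed hF P,
          ← sub_sub C A (Finsupp.single P 1)] at h1
        have := ell_le_single_add hK (C - A) P
        omega
      · rw [← sub_sub]
        have := hAb P
        have := ell_le_single_add hK (D - A) P
        omega
      · rw [← sub_sub]
        have := hPs R
        have := hAb P
        have := ell_le_single_add hK (D - A) P
        omega
      · rwa [← sub_sub]
      · rw [← sub_sub]
        have := hstep A P hAb
        omega
  obtain ⟨A, hAd, hA1, hAl, hAb, hAg, hA2⟩ := chain (ell D - 3) (by omega)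
  -- the last point leaves a pencil
  have hr := Groth.FunFld1.riemann_roch hK hC A
  haveI : Infinite (Place k K) := Groth.CurveBridge.infinite_place hF
  obtain ⟨P, hP⟩ := ((finite_base hK (A := C - A) (by omega)).union
    (finite_not_sep hK hAb hAg)).infinite_compl.nonempty
  simp only [Set.mem_compl_iff, Set.mem_union, Set.mem_setOf_eq, not_or, not_not] at hP
  obtain ⟨hPC, hPs⟩ := hP
  have hE2 : ell (D - A - Finsupp.single P 1) = 2 := by
    have := hAb P
    have := ell_le_single_add hK (D - A) P
    omega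
  have hA1' : ell (A + Finsupp.single P 1) ≤ 1 := by
    have h1 := Groth.FunFld1.riemann_roch hK hC (A + Finsupp.single P 1)
    rw [deg_add, deg_single, deg_eq_one_of_isAlgClosed hF P, ← sub_sub C A (Finsupp.single P 1)] at h1
    omega
  have hp := pencil_trick hF D hE2 fun R => by have := hPs R; omega
  rw [show D + (D - A - Finsupp.single P 1) = 2 • D - A - Finsupp.single P 1 by rw [two_nsmul]; abel,
    show D - (D - A - Finsupp.single P 1) = A + Finsupp.single P 1 by abel] at hp
  have := hstep A P hAb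
  omega

/-- Removing the base places. -/
theorem exists_bpf_le (D : Divisor k K) (h : 1 ≤ ell D) :
    ∃ D₀ : Divisor k K, D₀ ≤ D ∧ L D₀ = L D ∧ Bpf D₀ := by
  classical
  have hex : ∃ n : ℕ, ∃ D' : Divisor k K, D' ≤ D ∧ L D' = L D ∧ D'.deg = (n : ℤ) :=
    ⟨D.deg.toNat, D, le_rfl, rfl, by
      have hne : L D ≠ ⊥ := fun hb => by unfold ell at h; rw [hb, finrank_bot] at h; omega
      exact (Int.toNat_of_nonneg (deg_ge_of_ne_bot hK hne)).symm⟩
  obtain ⟨D', hle, hL, hdeg⟩ := Nat.find_spec hex
  refine ⟨D', hle, hL, fun P => ?_⟩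
  haveI := (hF).finiteDimensional_L D'
  refine lt_of_le_of_ne (ell_single_sub_le hK D' P) fun he => ?_
  have heq : L (D' - Finsupp.single P 1) = L D' := Submodule.eq_of_le_of_finrank_eq
    (L_mono (sub_le_self _ (Finsupp.single_nonneg.mpr zero_le_one))) he
  have hne : L (D' - Finsupp.single P 1) ≠ ⊥ := fun hb => by
    rw [heq, hL] at hb
    unfold ell at h
    rw [hb, finrank_bot] at h
    omega
  have h0 := deg_ge_of_ne_bot hK hne
  rw [deg_sub_single hK, hdeg] at h0
  exact Nat.find_min hex (m := Nat.find hex - 1) (by omega)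
    ⟨_, (sub_le_self _ (Finsupp.single_nonneg.mpr zero_le_one)).trans hle, heq.trans hL, by
      rw [deg_sub_single hK, hdeg]; omega⟩

end Groth.CliffIndex.GenPos
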