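import Groth.Agent.CliffIndex.GeneralPosition

/-!
Castelnuovo's bound and the Clifford-plus inequalities for birational series.
-/

set_option linter.style.haveILetI false
set_option linter.unusedSectionVars false

namespace Groth.CliffIndex.GenPos

open WithZero FunFld Groth.FunFld1

variable {k K : Type*} [Field k] [Field K] [Algebra k K] [IsAlgClosed k] (hK : IsFunctionField k K)
include hK

local notation "hF" => IsFF.of_isFunctionField hK

theorem ell_le_deg_add_one {D : Divisor k K} (h : 1 ≤ ell D) : (ell D : ℤ) ≤ D.deg + 1 := by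
  have hne : L D ≠ ⊥ := fun hb => by unfold ell at h; rw [hb, finrank_bot] at h; omega
  have h0 := deg_ge_of_ne_bot hK hne
  rcases Groth.CurveBridge.nonspecial_or_clifford hK h with h' | h' <;> omega

/-- A special series: Clifford, and no more sections than the genus. -/
theorem special_facts {D : Divisor k K} (h1 : 1 ≤ ell D)
    (hs : D.deg + 1 - genus k K < (ell D : ℤ)) :
    2 * (ell D : ℤ) ≤ D.deg + 2 ∧ D.deg ≤ 2 * (genus k K : ℤ) - 2 ∧ ell D ≤ genus k K := by
  obtain ⟨C, hC⟩ := exists_isCanonical hK
  have hr := Groth.FunFld1.riemann_roch hK hC D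
  have hdC := Groth.FunFld1.deg_canonical hK hC
  have hne : L (C - D) ≠ ⊥ := fun hb => by
    have : ell (C - D) = 0 := by unfold ell; rw [hb, finrank_bot]
    omega
  have h0 := deg_ge_of_ne_bot hK hne
  rw [deg_sub] at h0
  rcases Groth.CurveBridge.nonspecial_or_clifford hK h1 with h' | h' <;> omega

theorem attains_add {A B : Divisor k K} {P : Place k K} (hA : ell (A - Finsupp.single P 1) < ell A)
    (hB : ell (B - Finsupp.single P 1) < ell B) :
    ell (A + B - Finsupp.single P 1) < ell (A + B) := by
  obtain ⟨x, hx, hxP⟩ := exists_max hK hA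
  obtain ⟨y, hy, hyP⟩ := exists_max hK hB
  haveI := (hF).finiteDimensional_L (A + B)
  refine Submodule.finrank_lt_finrank_of_lt (lt_of_le_not_ge
    (L_mono (sub_le_self _ (Finsupp.single_nonneg.mpr zero_le_one))) fun hle => ?_)
  have hxy : x * y ∈ L (A + B) := mul_mem_L hx hy
  have := hle hxy P
  rw [map_mul, hxP, hyP, ← exp_add, exp_le_exp] at this
  simp only [Finsupp.sub_apply, Finsupp.single_eq_same, Finsupp.add_apply] at this
  omega

theorem bpf_nsmul {D : Divisor k K} (hb : Bpf D) (m : ℕ) : Bpf ((m + 1) • D) := by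
  induction m with
  | zero => rwa [zero_add, one_nsmul]
  | succ m ih => rw [succ_nsmul]; exact fun P => attains_add hK (ih P) (hb P)

variable [CharZero k]

/-- Castelnuovo's genus bound for a birational series of dimension three. -/
theorem genus_le_of_ell_four {D : Divisor k K} (hb : Bpf D) (hgen : Gen D) (h4 : ell D = 4) :
    (genus k K : ℤ) ≤ D.deg ^ 2 / 4 - D.deg + 1 := by
  classical
  set d := D.deg with hd
  have hd3 : 3 ≤ d := by
    have := ell_le_deg_add_one hK (D := D) (by omega)
    omega
  obtain ⟨C, hC⟩ := exists_isCanonical hK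
  have hdC := Groth.FunFld1.deg_canonical hK hC
  have hlC := Groth.FunFld1.ell_canonical hK hC
  have hex : ∃ m : ℕ, ell (C - m • D) ≤ 1 := by
    refine ⟨2 * genus k K + 1, ?_⟩
    have : (C - (2 * genus k K + 1) • D).deg < 0 := by
      rw [deg_sub, hdC, deg_nsmul, ← hd]
      push_cast
      nlinarith
    rw [(hF).ell_eq_zero_of_deg_neg this]
    exact zero_le_one
  set N := Nat.find hex with hN
  have hbig : ∀ m, m < N → 2 ≤ ell (C - m • D) := fun m hm => by
    have := Nat.find_min hex hm
    omega
  have hrr : ∀ m : ℕ, (ell (m • D) : ℤ) = m * d + 1 - genus k K + ell (C - m • D) := fun m => by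
    rw [Groth.FunFld1.riemann_roch hK hC (m • D), deg_nsmul]
  haveI : Infinite (Place k K) := Groth.CurveBridge.infinite_place hF
  -- two general places
  obtain ⟨P, hPT, hPs, hPg⟩ := exists_gen_sub hK hb hgen (by omega)
    (⋃ m ∈ Finset.range N, {S : Place k K | 1 ≤ ell (C - m • D) ∧
      ¬ ell (C - m • D - Finsupp.single S 1) < ell (C - m • D)})
    ((Finset.range N).finite_toSet.biUnion fun m _ => by
      by_cases h : 1 ≤ ell (C - m • D)
      · exact (finite_base hK h).subset fun S hS => hS.2
      · exact Set.finite_empty.subset fun S hS => h hS.1)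
  simp only [Set.mem_iUnion, Finset.mem_range, Set.mem_setOf_eq, not_exists, not_and, not_not] at hPT
  have hDP : Bpf (D - Finsupp.single P 1) := fun R => by
    have := hPs R
    have := hb P
    have := ell_le_single_add hK D P
    omega
  have hDPl : ell (D - Finsupp.single P 1) = 3 := by
    have := hb P
    have := ell_le_single_add hK D P
    omega
  obtain ⟨Q, hQ⟩ := ((finite_not_sep hK hDP hPg).union
    ((Finset.range N).finite_toSet.biUnion fun m (hm : m ∈ (Finset.range N : Set ℕ)) =>
      finite_base hK (A := C - m • D - Finsupp.single P 1) (by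
        have hm' : m < N := Finset.mem_range.mp hm
        have := hbig m hm'
        have := ell_le_single_add hK (C - m • D) P
        omega))).infinite_compl.nonempty
  simp only [Set.mem_compl_iff, Set.mem_union, Set.mem_iUnion, Set.mem_setOf_eq, not_or,
    not_exists, not_not, Finset.mem_coe, Finset.mem_range] at hQ
  obtain ⟨hQs, hQT⟩ := hQ
  have hE2 : ell (D - Finsupp.single P 1 - Finsupp.single Q 1) = 2 := by
    have := hDP Q
    have := ell_le_single_add hK (D - Finsupp.single P 1) Q
    omega
  set E := D - Finsupp.single P 1 - Finsupp.single Q 1 with hE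
  have hEb : ∀ R, ell (E - Finsupp.single R 1) < ell E := fun R => by
    have := hQs R
    rw [hE] at hE2 ⊢
    omega
  -- the second difference
  have hdiff : ∀ m, m < N →
      2 * ell ((m + 1) • D) + 2 ≤ ell ((m + 2) • D) + ell (m • D) := by
    intro m hm
    have hp := pencil_trick hF ((m + 1) • D) hE2 hEb
    have e1 : (m + 1) • D + E = (m + 2) • D - Finsupp.single P 1 - Finsupp.single Q 1 := by
      rw [hE, succ_nsmul D (m + 1)]; abel
    have e2 : (m + 1) • D - E = m • D + Finsupp.single P 1 + Finsupp.single Q 1 := by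
      rw [hE, succ_nsmul D m]; abel
    have h1 : ell (m • D + Finsupp.single P 1 + Finsupp.single Q 1) = ell (m • D) := by
      have hr2 := Groth.FunFld1.riemann_roch hK hC (m • D + Finsupp.single P 1 + Finsupp.single Q 1)
      rw [deg_add, deg_add, deg_single, deg_single, deg_nsmul, deg_eq_one_of_isAlgClosed hF P,
        deg_eq_one_of_isAlgClosed hF Q,
        show C - (m • D + Finsupp.single P 1 + Finsupp.single Q 1) =
          C - m • D - Finsupp.single P 1 - Finsupp.single Q 1 by abel] at hr2
      have := hbig m hm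
      have := hPT m hm (by omega)
      have := hQT m hm
      have := ell_le_single_add hK (C - m • D) P
      have := ell_le_single_add hK (C - m • D - Finsupp.single P 1) Q
      have := hrr m
      rw [← hd] at hr2
      omega
    have h2 : ell ((m + 2) • D - Finsupp.single P 1) < ell ((m + 2) • D) :=
      bpf_nsmul hK hb (m + 1) P
    have h3 : ell ((m + 2) • D - Finsupp.single P 1 - Finsupp.single Q 1) <
        ell ((m + 2) • D - Finsupp.single P 1) := by
      have := attains_add hK (bpf_nsmul hK hb m Q) (hDP Q)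
      rwa [show (m + 1) • D + (D - Finsupp.single P 1) = (m + 2) • D - Finsupp.single P 1 by
        rw [succ_nsmul D (m + 1)]; abel] at this
    rw [e1, e2, h1] at hp
    omega
  have hinc : ∀ m, m ≤ N → ell (m • D) + (2 * m + 3) ≤ ell ((m + 1) • D) := by
    intro m
    induction m with
    | zero =>
      intro _
      rw [zero_nsmul, zero_add, one_nsmul, ell_zero_eq hK, h4]
    | succ m ih =>
      intro hm
      have := hdiff m (by omega)
      have := ih (by omega)
      rw [show m + 1 + 1 = m + 2 from rfl]
      omega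
  have hsum : ∀ m, m ≤ N + 1 → (genus k K : ℤ) - ell (C - m • D) ≤ m * (d - 2 - m) := by
    intro m
    induction m with
    | zero => intro _; simp [hlC]
    | succ m ih =>
      intro hm
      have h1 := ih (by omega)
      have h2 := hinc m (by omega)
      have h3 := hrr m
      have h4' := hrr (m + 1)
      push_cast at h4' ⊢
      nlinarith
  have hlast : ell (C - (N + 1) • D) = 0 := by
    by_contra hne
    have hN1 : ell (C - N • D) ≤ 1 := Nat.find_spec hex
    have hneB : ∀ A : Divisor k K, 1 ≤ ell A → L A ≠ ⊥ := fun A hA hb => by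
      unfold ell at hA; rw [hb, finrank_bot] at hA; omega
    obtain ⟨x, hx, hxe⟩ := (hF).exists_effective_of_ne_bot (hneB D (by omega))
    obtain ⟨y, hy, hye⟩ := (hF).exists_effective_of_ne_bot (hneB (C - (N + 1) • D) (by omega))
    have h := Groth.CurveBridge.ell_add_ell_le hK hxe hye
    rw [(hF).ell_add_div D hx, (hF).ell_add_div _ hy,
      show D + FunFld.div k x + (C - (N + 1) • D + FunFld.div k y) =
        C - N • D + FunFld.div k (x * y) by rw [(hF).div_mul hx hy, succ_nsmul]; abel,
      (hF).ell_add_div _ (mul_ne_zero hx hy)] at h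
    omega
  have h1 := hsum (N + 1) le_rfl
  rw [hlast] at h1
  have h2 : ((genus k K : ℤ) + d - 1) ≤ d ^ 2 / 4 := by
    rw [Int.le_ediv_iff_mul_le (by norm_num : (0 : ℤ) < 4)]
    push_cast at h1
    nlinarith [sq_nonneg (d - 2 - 2 * ((N : ℤ) + 1))]
  omega

/-- Castelnuovo's genus bound. -/
theorem genus_le_castelnuovo {D : Divisor k K} (hb : Bpf D) (hgen : Gen D) (h4 : 4 ≤ ell D) :
    (genus k K : ℤ) ≤ D.deg ^ 2 / 4 - D.deg + 1 := by
  obtain ⟨m, hm⟩ := Nat.exists_eq_add_of_le h4
  induction m generalizing D with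
  | zero => exact genus_le_of_ell_four hK hb hgen hm
  | succ m ih =>
    obtain ⟨P, -, hPs, hPg⟩ := exists_gen_sub hK hb hgen h4 ∅ Set.finite_empty
    have h1 := hb P
    have h2 := ell_le_single_add hK D P
    have hb' : Bpf (D - Finsupp.single P 1) := fun R => by
      have := hPs R
      omega
    have := ih hb' hPg (by omega) (by omega)
    rw [deg_sub_single hK] at this
    have hd := ell_le_deg_add_one hK (D := D) (by omega)
    have hmono : (D.deg - 1) ^ 2 / 4 + 1 ≤ D.deg ^ 2 / 4 := by
      rw [← Int.add_ediv_of_dvd_right (dvd_refl 4) |>.trans (by norm_num : (D.deg - 1) ^ 2 / 4 + 4 / 4 = (D.deg - 1) ^ 2 / 4 + 1)]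
      exact Int.ediv_le_ediv (by norm_num) (by nlinarith)
    omega

/-- The Clifford-plus inequalities. -/
theorem clifford_plus {D : Divisor k K} {r : ℕ} (hl : ell D = r + 1)
    (hs : D.deg + 1 - genus k K < (ell D : ℤ)) (hgen : Gen D) :
    ((2 • D).deg + 1 - genus k K < (ell (2 • D) : ℤ) → 3 * (r : ℤ) - 1 ≤ D.deg) ∧
      ((ell (2 • D) : ℤ) = (2 • D).deg + 1 - genus k K → 3 * (r : ℤ) - 1 + genus k K ≤ 2 * D.deg) := by
  obtain ⟨hcl, hd2, hlg⟩ := special_facts hK (D := D) (by omega) hs
  have hd : (2 • D).deg = 2 * D.deg := by rw [deg_nsmul]; norm_num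
  have key : 3 * r ≤ ell (2 • D) ∧ 2 * r + 1 ≤ ell (2 • D) := by
    have hne : L D ≠ ⊥ := fun hb => by unfold ell at hl; rw [hb, finrank_bot] at hl; omega
    obtain ⟨x, hx, hxe⟩ := (hF).exists_effective_of_ne_bot hne
    have h2 := Groth.CurveBridge.ell_add_ell_le hK hxe hxe
    rw [(hF).ell_add_div D hx, show D + FunFld.div k x + (D + FunFld.div k x) =
      2 • D + FunFld.div k (x * x) by rw [(hF).div_mul hx hx, two_nsmul]; abel,
      (hF).ell_add_div _ (mul_ne_zero hx hx)] at h2
    refine ⟨?_, by omega⟩
    by_cases hr : r ≤ 1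
    · omega
    obtain ⟨D₀, hle, hL, hb⟩ := exists_bpf_le hK D (by omega)
    have he : ell D₀ = ell D := by unfold ell; rw [hL]
    have hgen' : Gen D₀ := by unfold Gen ratios; rw [hL]; exact hgen
    have h3 := ell_two_mul hK hb hgen' (by omega) (by omega)
    have h4 := Groth.CurveBridge.ell_mono hF (nsmul_le_nsmul_right hle 2)
    omega
  constructor
  · intro h2s
    obtain ⟨h2c, -, -⟩ := special_facts hK (D := 2 • D) (by omega) h2s
    omega
  · intro h2n
    omega

/-- The genus bound in the Clifford-plus range. -/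
theorem genus_le_plus {D : Divisor k K} (hb : Bpf D) (hgen : Gen D) {r c : ℕ} (hc : c + 2 ≤ r)
    (hl : r + 1 ≤ ell D) (hd : D.deg = 2 * r + c) : (genus k K : ℤ) ≤ r + 2 * c + 1 := by
  by_cases hs : D.deg + 1 - genus k K < (ell D : ℤ)
  · obtain ⟨hcl, hd2, hlg⟩ := special_facts hK (D := D) (by omega) hs
    have h3 := ell_two_mul hK hb hgen (by omega) (by omega)
    have hd' : (2 • D).deg = 2 * D.deg := by rw [deg_nsmul]; norm_num
    rcases Groth.CurveBridge.nonspecial_or_clifford hK (D := 2 • D) (by omega) with h | h <;> omega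
  · obtain ⟨C, hC⟩ := exists_isCanonical hK
    have hr := Groth.FunFld1.riemann_roch hK hC D
    omega

end Groth.CliffIndex.GenPos
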