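import Groth.Agent.CliffIndex.Castelnuovo
import Groth.Agent.Funfld2.Residue.Canonical
import Groth.Agent.Funfld2.Hasse.Expansion
import Groth.Agent.Funfld2.Found
import Groth.Agent.FunFld1.Geometric
import Groth.Agent.S12582
import Mathlib.Algebra.Module.Submodule.Union

/-!
Castelnuovo's bound in any characteristic: either a general point gives a birational projection, or
all tangent lines pass through one point, and then the genus is zero.
-/

set_option linter.style.haveILetI false
set_option linter.unusedSectionVars false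

open FunFld Groth.FunFld1 Groth.CliffIndex Groth.CliffIndex.GenPos
open scoped LaurentSeries

namespace Groth.CliffIndex.CharFree

open WithZero

variable {k K : Type*} [Field k] [Field K] [Algebra k K]

/-- The pencil trick for two functions without common zero. -/
theorem pencil_trick_pair (hF' : IsFF k K) (A : Divisor k K) {E : Divisor k K} {u v : K}
    (hu' : u ∈ L E) (hv' : v ∈ L E) (hv : v ≠ 0)
    (hmax : ∀ P : Place k K, P.1 u = exp (E P) ∨ P.1 v = exp (E P)) :
    2 * ell A ≤ ell (A + E) + ell (A - E) := by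
  haveI := hF'.finiteDimensional_L A
  haveI := hF'.finiteDimensional_L (A + E)
  haveI := hF'.finiteDimensional_L (A - E)
  have hmul : ∀ w ∈ L E, ∀ a ∈ L A, w * a ∈ L (A + E) := fun w hw a ha P => by
    rw [map_mul, Finsupp.add_apply, add_comm, exp_add]
    exact mul_le_mul' (hw P) (ha P)
  let Φ : (L A × L A) →ₗ[k] L (A + E) :=
    LinearMap.coprod
      (((LinearMap.mulLeft k u).comp (L A).subtype).codRestrict _ fun a => hmul u hu' a a.2)
      (((LinearMap.mulLeft k v).comp (L A).subtype).codRestrict _ fun a => hmul v hv' a a.2)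
  have hker : ∀ p ∈ LinearMap.ker Φ, u * (p.1 : K) + v * (p.2 : K) = 0 := fun p hp =>
    congrArg (fun z : L (A + E) => (z : K)) (LinearMap.mem_ker.mp hp)
  have hmem : ∀ p : LinearMap.ker Φ, (p.1.1 : K) / v ∈ L (A - E) := by
    intro p P
    have h := hker p.1 p.2
    rw [Finsupp.sub_apply]
    by_cases hvP : P.1 v = exp (E P)
    · rw [map_div₀, hvP, sub_eq_add_neg, exp_add, exp_neg, ← div_eq_mul_inv]
      exact div_le_div_of_nonneg_right (p.1.1.2 P) zero_le
    · have hu : P.1 u = exp (E P) := (hmax P).resolve_right hvP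
      have hu0 : u ≠ 0 := ne_zero_of_val_eq hu
      have e : (p.1.1 : K) / v = -((p.1.2 : K) / u) := by
        field_simp
        linear_combination h
      rw [e, Valuation.map_neg, map_div₀, hu, sub_eq_add_neg, exp_add, exp_neg, ← div_eq_mul_inv]
      exact div_le_div_of_nonneg_right (p.1.2.2 P) zero_le
  let Ψ : LinearMap.ker Φ →ₗ[k] L (A - E) :=
    ((LinearMap.mulRight k v⁻¹).comp ((L A).subtype.comp
      ((LinearMap.fst k (L A) (L A)).comp (LinearMap.ker Φ).subtype))).codRestrict _ fun p => by
        simpa [div_eq_mul_inv] using hmem p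
  have hΨ : Function.Injective Ψ := by
    refine (injective_iff_map_eq_zero _).2 fun p hp => ?_
    have h1 : (p.1.1 : K) * v⁻¹ = 0 := congrArg (fun z : L (A - E) => (z : K)) hp
    have ha : (p.1.1 : K) = 0 := (mul_eq_zero.mp h1).resolve_right (inv_ne_zero hv)
    have h := hker p.1 p.2
    rw [ha, mul_zero, zero_add] at h
    have hb' : (p.1.2 : K) = 0 := (mul_eq_zero.mp h).resolve_left hv
    exact Subtype.ext (Prod.ext (Subtype.ext ha) (Subtype.ext hb'))
  have h1 := LinearMap.finrank_range_add_finrank_ker Φ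
  rw [Module.finrank_prod] at h1
  have h2' := Submodule.finrank_le (LinearMap.range Φ)
  have h3 := LinearMap.finrank_le_finrank_of_injective hΨ
  unfold ell
  omega

variable [IsAlgClosed k] (hK : IsFunctionField k K)
include hK

local notation "hF" => IsFF.of_isFunctionField hK

/-- The pencil trick inside a series without base places. -/
theorem pencil_trick_bpf (A : Divisor k K) {E : Divisor k K} (h1 : 1 ≤ ell E) (hb : Bpf E) :
    2 * ell A ≤ ell (A + E) + ell (A - E) := by
  classical
  have hne : L E ≠ ⊥ := fun h => by unfold ell at h1; rw [h, finrank_bot] at h1; omega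
  obtain ⟨v, hv, hv0⟩ := Submodule.exists_mem_ne_zero_of_ne_bot hne
  set S := E.support ∪ (FunFld.div k v).support
  obtain ⟨u, hu⟩ := Submodule.exists_forall_notMem_of_forall_ne_top
    (fun P : S => (L (E - Finsupp.single (P : Place k K) 1)).comap (L E).subtype) fun P htop => by
      haveI := (hF).finiteDimensional_L (E - Finsupp.single (P : Place k K) 1)
      refine (hb P).not_ge (Submodule.finrank_mono fun w hw => ?_)
      exact (Submodule.eq_top_iff'.mp htop ⟨w, hw⟩ : _)
  refine pencil_trick_pair hF A u.2 hv hv0 fun P => ?_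
  by_cases hP : P ∈ S
  · left
    by_contra hne'
    exact hu ⟨P, hP⟩ (GenPos.mem_sub_single u.2 hne')
  · right
    simp only [S, Finset.mem_union, Finsupp.mem_support_iff, not_or, not_not] at hP
    rw [(hF).div_apply] at hP
    rw [hP.1, val_eq_exp_neg_ord P hv0, hP.2, neg_zero]

theorem isGeometric_algClosed : IsGeometric k K := by
  haveI : PerfectField k := IsAlgClosed.perfectField k
  exact isGeometric_of_perfectField hK

theorem exists_expansion (P : Place k K) : ∃ φ : K →ₐ[k] k⸨X⸩, LocRes.IsExpansionAt P.1 φ := by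
  obtain ⟨t, ht⟩ := exists_uniformizer P
  exact ⟨_, Groth.Funfld2.Hasse.isExpansionAt_expansion
    ((Groth.Funfld2.good_of_algClosed hK).deg_one P) ht.2⟩

omit [IsAlgClosed k] hK in
theorem D_expansion_eq_zero {t : K} (φ : K →ₐ[k] k⸨X⸩) (h : KaehlerDifferential.D k K t = 0) :
    LocRes.D k (φ t) = 0 := by
  let _i := φ.toRingHom.toAlgebra
  have _t : IsScalarTower k K k⸨X⸩ := LocRes.isScalarTower_exp φ
  have h1 := Derivation.liftKaehlerDifferential_comp_D (LocRes.dExp φ) t
  rw [h, map_zero] at h1
  exact h1.symm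

omit [IsAlgClosed k] hK in
theorem one_le_vDiff {P : Place k K} {φ : K →ₐ[k] k⸨X⸩} (hφ : LocRes.IsExpansionAt P.1 φ) {t : K}
    (ht : P.1 t = exp (-1)) : 1 ≤ Valued.v (LocRes.D k (φ t)) := by
  by_contra hlt
  refine Groth.Funfld2.Residue.coeff_one_ne_zero hφ ht ?_
  rw [← Groth.Funfld2.Residue.D_coeff_zero]
  refine Groth.Funfld2.Residue.coeff_eq_zero_of_val (N := -1) ?_ (by norm_num)
  push Not at hlt
  generalize Valued.v (LocRes.D k (φ t)) = z at hlt
  rcases eq_or_ne z 0 with rfl | hz
  · exact zero_le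
  · rw [← exp_log hz] at hlt ⊢
    rw [← exp_zero, exp_lt_exp] at hlt
    exact exp_le_exp.mpr (by omega)

theorem val_ne_of_D_eq_zero {t : K} (h : KaehlerDifferential.D k K t = 0) (P : Place k K) :
    P.1 t ≠ exp (-1) := fun ht => by
  obtain ⟨φ, hφ⟩ := exists_expansion hK P
  have := one_le_vDiff hφ ht
  rw [D_expansion_eq_zero φ h, map_zero] at this
  exact not_lt.mpr this zero_lt_one

theorem exists_le_exp_two {t : K} (h : KaehlerDifferential.D k K t = 0) (P : Place k K)
    (ht : P.1 t ≤ 1) : ∃ c : k, P.1 (t - algebraMap k K c) ≤ exp (-2) := by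
  obtain ⟨c, hc⟩ := exists_const_sub_lt_one (deg_eq_one_of_isAlgClosed hF P) ht
  refine ⟨c, ?_⟩
  have hne := val_ne_of_D_eq_zero hK
    (show KaehlerDifferential.D k K (t - algebraMap k K c) = 0 by
      rw [map_sub, h, Derivation.map_algebraMap, sub_zero]) P
  generalize P.1 (t - algebraMap k K c) = z at hc hne
  rcases eq_or_ne z 0 with rfl | hz
  · exact zero_le
  · rw [← exp_log hz] at hc hne ⊢
    rw [← exp_zero, exp_lt_exp] at hc
    rw [ne_eq, exp_inj] at hne
    exact exp_le_exp.mpr (by omega)

theorem finite_not_ord_le_one {t : K} (h : KaehlerDifferential.D k K t ≠ 0) :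
    {R : Place k K | ∃ c : k, R.1 (t - algebraMap k K c) ≤ exp (-2)}.Finite := by
  obtain ⟨ht, hsep⟩ := separating_of_D_ne_zero hK (isGeometric_algClosed hK) h
  haveI := hsep
  haveI := (hF).finiteDimensional ht
  refine (Groth.Agent.S11020.result k (IntermediateField.adjoin k ({t} : Set K)) K
    (isFunctionField_adjoin ht)).subset fun R hR hsur => ?_
  obtain ⟨c, hc⟩ := hR
  have h1 := val_sub_eq_of_surjective (c := c) (hc.trans_lt (exp_lt_one.mpr (by norm_num))) hsur
  rw [h1, exp_le_exp] at hc
  omega

theorem tangent_ratio_D_eq_zero {D : Divisor k K} (hb : Bpf D) (hsep : ∀ P, Sep D P)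
    (h4 : 4 ≤ ell D) (T : Set (Place k K)) (hT : T.Finite)
    (hno : ∀ P ∉ T, ¬ Gen (D - Finsupp.single P 1)) (Q : Place k K) {u₀ v₀ : K}
    (hu : u₀ ∈ L (D - Finsupp.single Q 1 - Finsupp.single Q 1))
    (hv : v₀ ∈ L (D - Finsupp.single Q 1 - Finsupp.single Q 1)) (hv₀ : v₀ ≠ 0) :
    KaehlerDifferential.D k K (u₀ / v₀) = 0 := by
  classical
  by_contra hD
  haveI : Infinite (Place k K) := Groth.CurveBridge.infinite_place hF
  have hd : ∀ P : Place k K, P.deg = 1 := deg_eq_one_of_isAlgClosed hF
  have hQs := hsep Q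
  have hu₂ := hu
  have hv₂ := hv
  set E₂ := D - Finsupp.single Q 1 - Finsupp.single Q 1 with hE₂
  have hE₂l : ell E₂ + 2 = ell D := hQs Q
  haveI := (hF).finiteDimensional_L E₂
  set S₁ : Set (Place k K) := {R | ∃ c : k, R.1 (u₀ / v₀ - algebraMap k K c) ≤ exp (-2)} ∪
    ((E₂.support ∪ (FunFld.div k v₀).support ∪ {Q} : Finset (Place k K)) : Set (Place k K))
  have hS₁ : S₁.Finite := (finite_not_ord_le_one hK hD).union (Finset.finite_toSet _)
  have hQR : ∀ R, ell (D - Finsupp.single Q 1 - Finsupp.single R 1) + 2 = ell D := hQs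
  obtain ⟨S, hS⟩ := ((hT.union
    (finite_base hK (A := E₂) (by omega))).union (hS₁.biUnion fun R _ =>
      finite_base hK (A := D - Finsupp.single Q 1 - Finsupp.single R 1)
        (by have := hQR R; omega))).infinite_compl.nonempty
  simp only [Set.mem_compl_iff, Set.mem_union, Set.mem_setOf_eq, Set.mem_iUnion, not_or, not_not,
    not_exists, exists_prop, not_and] at hS
  obtain ⟨⟨hST, hSE₂⟩, hSR⟩ := hS
  have hSs := hsep S
  set E := D - Finsupp.single S 1 with hE
  have hEl : ell E + 1 = ell D := by
    have := ell_le_single_add hK D S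
    have := hb S
    rw [hE]; omega
  have hEb : Bpf E := fun R => by
    have := hSs R
    rw [hE] at hEl ⊢
    omega
  set F := IntermediateField.adjoin k (ratios E) with hFdef
  have hFne : F ≠ ⊤ := hno S hST
  obtain ⟨s, hs, hsQ⟩ := exists_max hK (hEb Q)
  have hs0 : s ≠ 0 := ne_zero_of_val_eq hsQ
  have hEQ : ell (E - Finsupp.single Q 1) + 2 = ell D := hSs Q
  have hEQQ : ell (E - Finsupp.single Q 1 - Finsupp.single Q 1) + 3 = ell D := by
    have e : E - Finsupp.single Q 1 - Finsupp.single Q 1 = E₂ - Finsupp.single S 1 := by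
      rw [hE, hE₂]; abel
    have := ell_le_single_add hK E₂ S
    rw [e]; omega
  obtain ⟨v, hv, hvQ⟩ := exists_max hK
    (show ell (E - Finsupp.single Q 1 - Finsupp.single Q 1) < ell (E - Finsupp.single Q 1) by omega)
  have hvE : v ∈ L E := L_mono (sub_le_self _ (Finsupp.single_nonneg.mpr zero_le_one)) hv
  have hz1 : Q.1 (v / s) = exp (-1) := by
    rw [map_div₀, hvQ, hsQ, Finsupp.sub_apply, Finsupp.single_eq_same, div_eq_mul_inv, ← exp_neg,
      ← exp_add]
    congr 1; ring
  have hzF : v / s ∈ F := IntermediateField.subset_adjoin k _ ⟨v, hvE, s, hs, rfl⟩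
  have hztr : Transcendental k (v / s) := fun halg => by
    obtain ⟨c, hc⟩ := hK.2 _ halg
    rcases eq_or_ne c 0 with rfl | hc0
    · rw [← hc, map_zero, map_zero] at hz1; exact exp_ne_zero hz1.symm
    · rw [← hc, val_algebraMap Q hc0, eq_comm, Groth.FunFld1.exp_eq_one] at hz1; omega
  obtain ⟨hFF, hfd⟩ := Groth.FunFld1.IsFF.intermediateField hF F hzF hztr
  haveI := hfd
  have hdeg : 2 ≤ Module.finrank F K := by
    have h1 : Module.finrank F K ≠ 1 := fun h => hFne (IntermediateField.finrank_eq_one_iff_eq_top.mp h)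
    have h2 := Module.finrank_pos (R := F) (M := K)
    omega
  obtain ⟨p, hp⟩ := hFF.exists_isOver (K' := K) Q
  have heQ : ramIdx Q p = 1 := by
    have h1 := overWith_ord (isOverWith_ramIdx hp) ⟨v / s, hzF⟩
    have h2 : Q.ord (v / s) = 1 := by rw [ord_eq_of_val_eq Q hz1]; norm_num
    change Q.ord (v / s) = _ at h1
    rw [h2] at h1
    have := Int.eq_one_of_mul_eq_one_right (Int.natCast_nonneg _) h1.symm
    exact_mod_cast this
  obtain ⟨R, hR, hRQ⟩ : ∃ R, IsOver R p ∧ R ≠ Q := by
    by_contra! hall
    have hsum := hFF.sum_ramIdx_deg (K' := K) p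
    have habove : (hFF.above p : Finset (Place k K)) = {Q} := Finset.ext fun R => by
      rw [hFF.mem_above, Finset.mem_singleton]
      exact ⟨hall R, fun h => h ▸ hp⟩
    rw [habove, Finset.sum_singleton, heQ, hd, mul_one] at hsum
    have := hFF.deg_pos p
    have := Nat.mul_le_mul hdeg this
    omega
  obtain ⟨σ, hσ, hσQ, hσR⟩ := exists_max₂ hK hEb Q R
  have hσ0 : σ ≠ 0 := ne_zero_of_val_eq hσQ
  have hRe := isOverWith_ramIdx hR
  have he := overWith_pos hRe
  -- vanishing at `Q` forces the same vanishing at `R`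
  have key : ∀ (j : ℤ) (y : K), 0 ≤ j → y ∈ L E → Q.1 y ≤ exp (E Q - j) → R.1 y ≤ exp (E R - j) := by
    intro j y hj hy hyQ
    rcases eq_or_ne y 0 with rfl | hy0
    · rw [map_zero]; exact zero_le
    have hyF : y / σ ∈ F := IntermediateField.subset_adjoin k _ ⟨y, hy, σ, hσ, rfl⟩
    have hyQ' := hyQ
    rw [val_le_exp_iff Q hy0] at hyQ'
    rw [val_le_exp_iff R hy0]
    have oQ := overWith_ord (isOverWith_ramIdx hp) ⟨y / σ, hyF⟩
    have oR := overWith_ord hRe ⟨y / σ, hyF⟩
    change Q.ord (y / σ) = _ at oQ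
    change R.ord (y / σ) = _ at oR
    generalize p.ord (⟨y / σ, hyF⟩ : F) = n at oQ oR
    rw [heQ, Nat.cast_one, one_mul] at oQ
    rw [div_eq_mul_inv, ord_mul Q hy0 (inv_ne_zero hσ0), ord_inv, ord_eq_of_val_eq Q hσQ] at oQ
    rw [div_eq_mul_inv, ord_mul R hy0 (inv_ne_zero hσ0), ord_inv, ord_eq_of_val_eq R hσR] at oR
    have hpo : j ≤ n := by omega
    have := le_mul_of_one_le_left (hj.trans hpo) (show (1 : ℤ) ≤ ramIdx R p by exact_mod_cast he)
    omega
  have hsub1 : L (E - Finsupp.single Q 1) ≤ L (D - Finsupp.single Q 1 - Finsupp.single R 1 - Finsupp.single S 1) := by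
    intro y hy P
    rw [show D - Finsupp.single Q 1 - Finsupp.single R 1 - Finsupp.single S 1 =
      E - Finsupp.single Q 1 - Finsupp.single R 1 by rw [hE]; abel]
    by_cases hP : R = P
    · subst hP
      rw [Finsupp.sub_apply, Finsupp.sub_apply, Finsupp.single_eq_of_ne hRQ, Finsupp.single_eq_same, sub_zero]
      refine key 1 y zero_le_one (L_mono (sub_le_self _ (Finsupp.single_nonneg.mpr zero_le_one)) hy) ?_
      have := hy Q
      rwa [Finsupp.sub_apply, Finsupp.single_eq_same] at this
    · rw [Finsupp.sub_apply (E - _), Finsupp.single_eq_of_ne (Ne.symm hP), sub_zero]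
      exact hy P
  haveI := (hF).finiteDimensional_L (D - Finsupp.single Q 1 - Finsupp.single R 1 - Finsupp.single S 1)
  have h1 : ell (E - Finsupp.single Q 1) ≤ ell (D - Finsupp.single Q 1 - Finsupp.single R 1 - Finsupp.single S 1) :=
    Submodule.finrank_mono hsub1
  have h2 := hQR R
  have hR₁ : R ∉ S₁ := fun hmem => by have := hSR R hmem; omega
  simp only [S₁, Set.mem_union, Set.mem_setOf_eq, Finset.mem_coe, Finset.mem_union,
    Finsupp.mem_support_iff, Finset.mem_singleton, not_or, not_exists, not_not] at hR₁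
  obtain ⟨hsimple, ⟨hER, hv₀R⟩, -⟩ := hR₁
  rw [(hF).div_apply] at hv₀R
  have hsub2 : L (E - Finsupp.single Q 1 - Finsupp.single Q 1) ≤
      L (E₂ - Finsupp.single R 1 - Finsupp.single R 1) := by
    intro y hy P
    have hyE : y ∈ L E := L_mono ((sub_le_self _ (Finsupp.single_nonneg.mpr zero_le_one)).trans
      (sub_le_self _ (Finsupp.single_nonneg.mpr zero_le_one))) hy
    by_cases hP : R = P
    · subst hP
      have h := key 2 y zero_le_two hyE (by
        have := hy Q
        rw [Finsupp.sub_apply, Finsupp.sub_apply, Finsupp.single_eq_same] at this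
        convert this using 2; ring)
      refine h.trans (exp_le_exp.mpr ?_)
      simp only [hE, hE₂, Finsupp.sub_apply, Finsupp.single_eq_same, Finsupp.single_eq_of_ne hRQ]
      by_cases hSR' : R = S
      · subst hSR'; rw [Finsupp.single_eq_same]; omega
      · rw [Finsupp.single_eq_of_ne hSR']; omega
    · refine (hy P).trans (exp_le_exp.mpr ?_)
      simp only [hE, hE₂, Finsupp.sub_apply, Finsupp.single_eq_of_ne (Ne.symm hP)]
      have : (0 : ℤ) ≤ Finsupp.single S (1 : ℤ) P := Finsupp.single_nonneg.mpr zero_le_one P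
      omega
  haveI := (hF).finiteDimensional_L (E₂ - Finsupp.single R 1 - Finsupp.single R 1)
  have h3 : ell (E - Finsupp.single Q 1 - Finsupp.single Q 1) ≤
      ell (E₂ - Finsupp.single R 1 - Finsupp.single R 1) := Submodule.finrank_mono hsub2
  -- but `R` is unramified for the projection from the tangent line
  have hu : u₀ ∈ L E₂ := hu₂
  have hv : v₀ ∈ L E₂ := hv₂
  have hv₀max : R.1 v₀ = exp (E₂ R) := by rw [hER, val_eq_exp_neg_ord R hv₀, hv₀R, neg_zero]
  obtain ⟨c, hc⟩ := exists_sub_smul hK hu hv hv₀max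
  have hdrop1 : ell (E₂ - Finsupp.single R 1) < ell E₂ := by
    haveI := (hF).finiteDimensional_L E₂
    refine Submodule.finrank_lt_finrank_of_lt (lt_of_le_not_ge
      (L_mono (sub_le_self _ (Finsupp.single_nonneg.mpr zero_le_one))) fun hle => ?_)
    have := hle hv R
    rw [hv₀max, exp_le_exp, Finsupp.sub_apply E₂, Finsupp.single_eq_same] at this
    omega
  have hdrop2 : ell (E₂ - Finsupp.single R 1 - Finsupp.single R 1) < ell (E₂ - Finsupp.single R 1) := by
    haveI := (hF).finiteDimensional_L (E₂ - Finsupp.single R 1)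
    refine Submodule.finrank_lt_finrank_of_lt (lt_of_le_not_ge
      (L_mono (sub_le_self _ (Finsupp.single_nonneg.mpr zero_le_one))) fun hle => hsimple c ?_)
    have := hle hc R
    rw [show u₀ / v₀ - algebraMap k K c = (u₀ - c • v₀) / v₀ by rw [Algebra.smul_def]; field_simp,
      map_div₀, hv₀max, div_le_iff₀ exp_pos, ← exp_add]
    refine this.trans_eq ?_
    congr 1
    simp only [Finsupp.sub_apply, Finsupp.single_eq_same]
    ring
  omega


omit [IsAlgClosed k] hK in
theorem inf_tangent {D : Divisor k K} {R S : Place k K} (h : R ≠ S) :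
    L (D - Finsupp.single R 2) ⊓ L (D - Finsupp.single S 2) =
      L (D - Finsupp.single R 2 - Finsupp.single S 2) := by
  refine le_antisymm (fun y hy P => ?_) (le_inf (L_mono (sub_le_self _ ?_)) (L_mono ?_))
  · obtain ⟨h1, h2⟩ := hy
    by_cases hP : P = R
    · subst hP
      refine (h1 P).trans (exp_le_exp.mpr ?_)
      simp [Finsupp.single_eq_of_ne h]
    · refine (h2 P).trans (exp_le_exp.mpr ?_)
      simp [Finsupp.single_eq_of_ne hP]
  · exact Finsupp.single_nonneg.mpr (by norm_num)
  · rw [sub_right_comm]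
    exact sub_le_self _ (Finsupp.single_nonneg.mpr (by norm_num))

theorem L_sub_single_le_two {A : Divisor k K} {S : Place k K}
    (hS : ell (A - Finsupp.single S 1) < ell A)
    (hA : ∀ u ∈ L A, ∀ v ∈ L A, v ≠ 0 → KaehlerDifferential.D k K (u / v) = 0) :
    L (A - Finsupp.single S 1) = L (A - Finsupp.single S 2) := by
  have hle : A - Finsupp.single S (2 : ℤ) ≤ A - Finsupp.single S (1 : ℤ) :=
    sub_le_sub_left (Finsupp.single_le_single.mpr (by norm_num)) _
  refine le_antisymm (fun y hy P => ?_) (L_mono hle)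
  by_cases hP : P = S
  · subst hP
    obtain ⟨u, hu, huS⟩ := exists_max hK hS
    have hu0 : u ≠ 0 := ne_zero_of_val_eq huS
    have hy' := L_mono (sub_le_self A (Finsupp.single_nonneg.mpr (zero_le_one' ℤ))) hy
    have hne := val_ne_of_D_eq_zero hK (hA y hy' u hu hu0) P
    have h1 := hy P
    rcases eq_or_ne y 0 with rfl | hy0
    · rw [map_zero]; exact zero_le
    rw [map_div₀, huS, val_eq_exp_neg_ord P hy0, div_eq_mul_inv, ← exp_neg, ← exp_add, ne_eq, exp_inj] at hne
    rw [val_le_exp_iff P hy0, Finsupp.sub_apply, Finsupp.single_eq_same] at h1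
    rw [val_le_exp_iff P hy0, Finsupp.sub_apply, Finsupp.single_eq_same]
    omega
  · have h1 := hy P
    simp only [Finsupp.sub_apply, Finsupp.single_eq_of_ne hP] at h1 ⊢
    exact h1

omit [IsAlgClosed k] hK in
theorem single_two (A : Divisor k K) (P : Place k K) :
    A - Finsupp.single P 1 - Finsupp.single P 1 = A - Finsupp.single P 2 := by
  rw [sub_sub, ← Finsupp.single_add]; norm_num

/-- If no general projection is birational, all tangent lines pass through one point. -/
theorem exists_strange {D : Divisor k K} (hsep : ∀ P, Sep D P) (h4 : 4 ≤ ell D)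
    (hA : ∀ Q : Place k K, ∀ u ∈ L (D - Finsupp.single Q 2), ∀ v ∈ L (D - Finsupp.single Q 2),
      v ≠ 0 → KaehlerDifferential.D k K (u / v) = 0) :
    ∃ W : Submodule k K, W ≤ L D ∧ Module.finrank k W + 1 = ell D ∧
      ∀ u ∈ W, ∀ v ∈ W, v ≠ 0 → KaehlerDifferential.D k K (u / v) = 0 := by
  classical
  haveI : Infinite (Place k K) := Groth.CurveBridge.infinite_place hF
  let A : Place k K → Submodule k K := fun Q => L (D - Finsupp.single Q 2)
  have hAl : ∀ Q, Module.finrank k (A Q) + 2 = ell D := fun Q => by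
    have := hsep Q Q
    rw [single_two] at this
    exact this
  haveI hfd : ∀ E : Divisor k K, FiniteDimensional k (L E) := fun E => (hF).finiteDimensional_L E
  have hB : ∀ Q : Place k K,
      {S : Place k K | ¬ ell (D - Finsupp.single Q 2 - Finsupp.single S 1) < ell (D - Finsupp.single Q 2)}.Finite :=
    fun Q => finite_base hK (by show 1 ≤ Module.finrank k (A Q); have := hAl Q; omega)
  have hAA : ∀ Q S : Place k K, Q ≠ S →
      ell (D - Finsupp.single Q 2 - Finsupp.single S 1) < ell (D - Finsupp.single Q 2) →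
      Module.finrank k (A Q ⊓ A S : Submodule k K) + 3 = ell D := fun Q S hne hlt => by
    show Module.finrank k (L (D - Finsupp.single Q 2) ⊓ L (D - Finsupp.single S 2) : Submodule k K) + 3 = _
    rw [inf_tangent hne, ← L_sub_single_le_two hK hlt (hA Q)]
    show ell _ + 3 = _
    have h1 := ell_le_single_add hK (D - Finsupp.single Q 2) S
    have h2 : ell (D - Finsupp.single Q 2) + 2 = ell D := hAl Q
    omega
  obtain ⟨R⟩ := (hF).nonempty_place
  obtain ⟨S, hS⟩ := ((hB R).union (Set.finite_singleton R)).infinite_compl.nonempty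
  simp only [Set.mem_compl_iff, Set.mem_union, Set.mem_setOf_eq, Set.mem_singleton_iff, not_or,
    not_not] at hS
  obtain ⟨hRS, hSR⟩ := hS
  have hI := hAA R S (Ne.symm hSR) hRS
  set W := A R ⊔ A S
  have hWle : W ≤ L D := sup_le (L_mono (sub_le_self _ (Finsupp.single_nonneg.mpr (by norm_num))))
    (L_mono (sub_le_self _ (Finsupp.single_nonneg.mpr (by norm_num))))
  have hW : Module.finrank k W + 1 = ell D := by
    have h1 : Module.finrank k W + Module.finrank k (A R ⊓ A S : Submodule k K) =
        Module.finrank k (A R) + Module.finrank k (A S) :=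
      Submodule.finrank_sup_add_finrank_inf_eq (A R) (A S)
    have := hAl R
    have := hAl S
    omega
  haveI : FiniteDimensional k W := inferInstanceAs (FiniteDimensional k (A R ⊔ A S : Submodule k K))
  obtain ⟨hbadfin⟩ : Nonempty ({T : Place k K | ¬ A T ≤ W}.Finite) := by
    refine ⟨((((hB R).union (hB S)).union (finite_base hK (A := D - Finsupp.single R 2 - Finsupp.single S 2)
      (by
        show 1 ≤ Module.finrank k (L (D - Finsupp.single R 2 - Finsupp.single S 2))
        rw [← inf_tangent (Ne.symm hSR)]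
        show 1 ≤ Module.finrank k (A R ⊓ A S : Submodule k K)
        omega))).union ((Set.finite_singleton R).union (Set.finite_singleton S))).subset fun T hT => ?_⟩
    by_contra hg
    simp only [Set.mem_union, Set.mem_setOf_eq, Set.mem_singleton_iff, not_or, not_not] at hg
    obtain ⟨⟨⟨hTR, hTS⟩, hTI⟩, hR', hS'⟩ := hg
    refine hT ?_
    have hX := hAA R T (Ne.symm hR') hTR
    have hY := hAA S T (Ne.symm hS') hTS
    have hle : (A R ⊓ A T) ⊔ (A S ⊓ A T) ≤ A T := sup_le inf_le_right inf_le_right
    by_cases hbig : Module.finrank k (A T) ≤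
        Module.finrank k ((A R ⊓ A T) ⊔ (A S ⊓ A T) : Submodule k K)
    · rw [← Submodule.eq_of_le_of_finrank_le hle hbig]
      exact sup_le (inf_le_left.trans le_sup_left) (inf_le_left.trans le_sup_right)
    exfalso
    have h1 := hAl T
    have eX : A R ⊓ A T = (A R ⊓ A T) ⊔ (A S ⊓ A T) :=
      Submodule.eq_of_le_of_finrank_le le_sup_left (by omega)
    have eY : A S ⊓ A T = (A R ⊓ A T) ⊔ (A S ⊓ A T) :=
      Submodule.eq_of_le_of_finrank_le le_sup_right (by omega)
    have e : A R ⊓ A T = A R ⊓ A S := Submodule.eq_of_le_of_finrank_le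
      (le_inf inf_le_left ((eX.trans eY.symm).le.trans inf_le_left)) (by omega)
    have h2 : L (D - Finsupp.single R 2 - Finsupp.single S 2) ≤
        L (D - Finsupp.single R 2 - Finsupp.single S 2 - Finsupp.single T 1) := fun y hy P => by
      by_cases hP : P = T
      · subst hP
        have hy' : y ∈ A R ⊓ A P := by
          rw [e]; show y ∈ L (D - Finsupp.single R 2) ⊓ L (D - Finsupp.single S 2)
          rw [inf_tangent (Ne.symm hSR)]; exact hy
        refine (hy'.2 P).trans (exp_le_exp.mpr ?_)
        simp [Finsupp.single_eq_of_ne hR', Finsupp.single_eq_of_ne hS']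
      · refine (hy P).trans (exp_le_exp.mpr ?_)
        simp [Finsupp.single_eq_of_ne hP]
    exact hTI.not_ge (Submodule.finrank_mono h2)
  refine ⟨W, hWle, hW, fun u hu v hv hv0 => ?_⟩
  by_contra hD
  obtain ⟨T, hT⟩ := ((hbadfin.union (finite_not_ord_le_one hK hD)).union
    (D.support ∪ (FunFld.div k v).support).finite_toSet).infinite_compl.nonempty
  simp only [Set.mem_compl_iff, Set.mem_union, Set.mem_setOf_eq, not_or, not_not, Finset.mem_coe,
    Finset.mem_union, Finsupp.mem_support_iff] at hT
  obtain ⟨⟨hTW, hTs⟩, hDT, hvT⟩ := hT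
  rw [(hF).div_apply] at hvT
  have hvmax : T.1 v = exp (D T) := by rw [hDT, val_eq_exp_neg_ord T hv0, hvT, neg_zero]
  obtain ⟨c, hc⟩ := exists_sub_smul hK (hWle hu) (hWle hv) hvmax
  have hz : u - c • v ∈ A T := by
    have hWT : A T ≤ W ⊓ L (D - Finsupp.single T 1) := le_inf hTW
      (L_mono (sub_le_sub_left (Finsupp.single_le_single.mpr (by norm_num)) _))
    have hlt : W ⊓ L (D - Finsupp.single T 1) < W := lt_of_le_not_ge inf_le_left fun hle => by
      have := (hle hv).2 T
      rw [hvmax, exp_le_exp, Finsupp.sub_apply, Finsupp.single_eq_same] at this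
      omega
    have h1 := Submodule.finrank_lt_finrank_of_lt hlt
    have := hAl T
    rw [Submodule.eq_of_le_of_finrank_le hWT (by omega)]
    exact ⟨sub_mem hu (Submodule.smul_mem _ c hv), hc⟩
  refine hTs ⟨c, ?_⟩
  have := hz T
  rw [show u / v - algebraMap k K c = (u - c • v) / v by rw [Algebra.smul_def]; field_simp,
    map_div₀, hvmax, div_le_iff₀ exp_pos, ← exp_add]
  refine this.trans_eq ?_
  congr 1
  simp only [Finsupp.sub_apply, Finsupp.single_eq_same]
  omega

/-- A curve all of whose tangent lines pass through one point has genus zero. -/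
theorem genus_eq_zero_of_strange {D : Divisor k K} (hb : Bpf D) (hsep : ∀ P, Sep D P)
    (h4 : 4 ≤ ell D) {W : Submodule k K} (hWle : W ≤ L D) (hW : Module.finrank k W + 1 = ell D)
    (hWD : ∀ u ∈ W, ∀ v ∈ W, v ≠ 0 → KaehlerDifferential.D k K (u / v) = 0) :
    genus k K = 0 := by
  classical
  haveI hfd : ∀ E : Divisor k K, FiniteDimensional k (L E) := fun E => (hF).finiteDimensional_L E
  haveI : FiniteDimensional k W := Submodule.finiteDimensional_of_le hWle
  choose φ hφ using fun P => exists_expansion hK P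
  -- the divisor of the series `W`
  obtain ⟨E, hWE, hEdeg, hEmax, hED⟩ : ∃ E : Divisor k K, W ≤ L E ∧ D.deg ≤ E.deg + 1 ∧
      (∀ R, ∃ w ∈ W, R.1 w = exp (E R)) ∧
      ∀ R, E R = D R ∨ (E R = D R - 1 ∧ W = L (D - Finsupp.single R 1)) := by
    by_cases hall : ∀ R, ∃ w ∈ W, R.1 w = exp (D R)
    · exact ⟨D, hWle, by omega, hall, fun R => Or.inl rfl⟩
    push Not at hall
    obtain ⟨R₁, hR₁⟩ := hall
    have h1 := hb R₁
    have heq : W = L (D - Finsupp.single R₁ 1) := Submodule.eq_of_le_of_finrank_le
      (fun w hw => mem_sub_single (hWle hw) (hR₁ w hw)) (by unfold ell at *; omega)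
    refine ⟨D - Finsupp.single R₁ 1, heq.le, by rw [deg_sub_single hK]; omega, fun R => ?_, fun R => ?_⟩
    · rw [heq]
      refine exists_max hK ?_
      have := hsep R₁ R
      have := ell_le_single_add hK D R₁
      omega
    · by_cases hR : R = R₁
      · subst hR
        exact Or.inr ⟨by simp, heq⟩
      · exact Or.inl (by simp [Finsupp.single_eq_of_ne hR])
  obtain ⟨v₀, hv₀, hv₀W⟩ := SetLike.exists_of_lt (lt_of_le_of_ne hWle fun he => by
    rw [he] at hW; unfold ell at hW; omega)
  obtain ⟨R₀⟩ := (hF).nonempty_place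
  obtain ⟨w₀, hw₀, hw₀R⟩ := hEmax R₀
  have hw₀0 : w₀ ≠ 0 := ne_zero_of_val_eq hw₀R
  -- at every place the coordinate along the lines through the centre is unramified
  have hloc : ∀ R, ∀ w ∈ W, R.1 w = exp (E R) → 1 ≤ Valued.v (LocRes.D k (φ R (v₀ / w))) := by
    intro R w hw hwR
    have hw0 : w ≠ 0 := ne_zero_of_val_eq hwR
    rcases hED R with hE | ⟨hE, heq⟩
    · rw [hE] at hwR
      obtain ⟨c, hc⟩ := exists_sub_smul hK hv₀ (hWle hw) hwR
      have hnot : v₀ - c • w ∉ W := fun h => hv₀W (by
        simpa using add_mem h (Submodule.smul_mem W c hw))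
      have hle : W ⊓ L (D - Finsupp.single R 1) ≤ L (D - Finsupp.single R 2) := by
        rintro z ⟨hzW, hz⟩ P
        by_cases hP : P = R
        · subst hP
          rcases eq_or_ne z 0 with rfl | hz0
          · rw [map_zero]; exact zero_le
          have hne := val_ne_of_D_eq_zero hK (hWD z hzW w hw hw0) P
          have h1 := hz P
          rw [map_div₀, hwR, val_eq_exp_neg_ord P hz0, div_eq_mul_inv, ← exp_neg, ← exp_add, ne_eq,
            exp_inj] at hne
          rw [val_le_exp_iff P hz0, Finsupp.sub_apply, Finsupp.single_eq_same] at h1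
          rw [val_le_exp_iff P hz0, Finsupp.sub_apply, Finsupp.single_eq_same]
          omega
        · have h1 := hz P
          simp only [Finsupp.sub_apply, Finsupp.single_eq_of_ne hP] at h1 ⊢
          exact h1
      have hAW : L (D - Finsupp.single R 2) ≤ W := by
        have h1 := Submodule.finrank_sup_add_finrank_inf_eq W (L (D - Finsupp.single R 1))
        have h2 : Module.finrank k (W ⊔ L (D - Finsupp.single R 1) : Submodule k K) ≤ ell D :=
          Submodule.finrank_mono (sup_le hWle
            (L_mono (sub_le_self _ (Finsupp.single_nonneg.mpr zero_le_one))))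
        have h3 := ell_le_single_add hK D R
        have h4' := hsep R R
        rw [single_two] at h4'
        haveI : FiniteDimensional k (W ⊓ L (D - Finsupp.single R 1) : Submodule k K) :=
          Submodule.finiteDimensional_of_le inf_le_left
        rw [← Submodule.eq_of_le_of_finrank_le hle (by unfold ell at *; omega)]
        exact inf_le_left
      have hexact : R.1 (v₀ - c • w) = exp (D R - 1) := by
        by_contra hne
        refine hnot (hAW ?_)
        rw [← single_two]
        exact mem_sub_single hc (by simpa using hne)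
      have hval : R.1 (v₀ / w - algebraMap k K c) = exp (-1) := by
        rw [show v₀ / w - algebraMap k K c = (v₀ - c • w) / w by rw [Algebra.smul_def]; field_simp,
          map_div₀, hexact, hwR, div_eq_mul_inv, ← exp_neg, ← exp_add]
        congr 1; ring
      have := one_le_vDiff (hφ R) hval
      rwa [map_sub, map_sub, D_expansion_eq_zero (φ R) (Derivation.map_algebraMap _ c), sub_zero] at this
    · have hvR : R.1 v₀ = exp (D R) := by
        by_contra hne
        exact hv₀W (heq ▸ mem_sub_single hv₀ hne)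
      have hval : R.1 (w / v₀) = exp (-1) := by
        rw [map_div₀, hwR, hvR, hE, div_eq_mul_inv, ← exp_neg, ← exp_add]
        congr 1; ring
      have h1 := one_le_vDiff (hφ R) hval
      rw [show v₀ / w = (w / v₀)⁻¹ by rw [inv_div], map_inv₀, Derivation.leibniz_inv, smul_eq_mul,
        map_mul, Valuation.map_neg, map_pow, map_inv₀, (hφ R).1, hval, ← exp_neg, ← exp_nsmul]
      refine h1.trans (le_mul_of_one_le_left' ?_)
      rw [← exp_zero, exp_le_exp]
      norm_num
  have hfac : ∀ R, ∀ w ∈ W, w ≠ 0 →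
      LocRes.D k (φ R (v₀ / w₀)) = φ R (w / w₀) * LocRes.D k (φ R (v₀ / w)) := by
    intro R w hw hw0
    rw [show v₀ / w₀ = (w / w₀) * (v₀ / w) by field_simp, map_mul, Derivation.leibniz,
      D_expansion_eq_zero (φ R) (hWD w hw w₀ hw₀ hw₀0), smul_zero, add_zero, smul_eq_mul]
  have hDx : KaehlerDifferential.D k K (v₀ / w₀) ≠ 0 := fun h0 => by
    have h1 := hfac R₀ w₀ hw₀ hw₀0
    have h2 := hloc R₀ w₀ hw₀ hw₀R
    rw [D_expansion_eq_zero (φ R₀) h0, map_zero] at h2
    exact not_lt.mpr h2 zero_lt_one
  have key : ∀ y : K, (∀ R, LocRes.vDiff (φ R) y (v₀ / w₀) ≤ 1) → y = 0 := by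
    intro y hy
    have hz : y / w₀ ∈ L (-E) := fun R => by
      obtain ⟨w, hw, hwR⟩ := hEmax R
      have hw0 : w ≠ 0 := ne_zero_of_val_eq hwR
      have h1 := hy R
      rw [LocRes.vDiff, hfac R w hw hw0, map_mul, map_mul, (hφ R).1, (hφ R).1, map_div₀, hwR] at h1
      have h2 : R.1 y * (exp (E R) / R.1 w₀) ≤ 1 := by
        refine le_trans ?_ h1
        exact mul_le_mul' le_rfl (le_mul_of_one_le_right' (hloc R w hw hwR))
      rw [map_div₀, Finsupp.neg_apply, exp_neg]
      calc R.1 y / R.1 w₀ = R.1 y * (exp (E R) / R.1 w₀) * (exp (E R))⁻¹ := by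
            rw [mul_div_assoc', div_mul_eq_mul_div, mul_assoc, mul_inv_cancel₀ exp_ne_zero, mul_one]
        _ ≤ 1 * (exp (E R))⁻¹ := mul_le_mul' h2 le_rfl
        _ = (exp (E R))⁻¹ := one_mul _
    have hneg : (-E).deg < 0 := by
      rw [deg_neg]
      have := ell_le_deg_add_one hK (D := D) (by omega)
      omega
    rw [(hF).L_eq_bot_of_deg_neg hneg, Submodule.mem_bot, div_eq_zero_iff] at hz
    exact hz.resolve_right hw₀0
  rw [← Groth.Agent.S12582.result k K hK (isGeometric_algClosed hK) (fun _ => k) φ hφ (v₀ / w₀) hDx]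
  rw [show Submodule.span k {y : K | ∀ R, LocRes.vDiff (φ R) y (v₀ / w₀) ≤ 1} = ⊥ from
    Submodule.span_eq_bot.mpr key]
  exact finrank_bot k K

/-- Either a general projection of a very ample series is birational, or the genus is zero. -/
theorem exists_gen_sub_or_genus_zero {D : Divisor k K} (hb : Bpf D) (hsep : ∀ P, Sep D P)
    (h4 : 4 ≤ ell D) (T : Set (Place k K)) (hT : T.Finite) :
    genus k K = 0 ∨ ∃ P, P ∉ T ∧ Sep D P ∧ Gen (D - Finsupp.single P 1) := by
  by_contra hno
  push Not at hno
  obtain ⟨hg, hno⟩ := hno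
  obtain ⟨W, h1, h2, h3⟩ := exists_strange hK hsep h4 fun Q u hu v hv hv0 => by
    rw [← single_two] at hu hv
    exact tangent_ratio_D_eq_zero hK hb hsep h4 T hT (fun P hP => hno P hP (hsep P)) Q hu hv hv0
  exact hg (genus_eq_zero_of_strange hK hb hsep h4 h1 h2 h3)


theorem genus_le_of_gen_sub {D : Divisor k K} (hb : Bpf D) (h4 : 4 ≤ ell D)
    (hex' : ∀ T : Set (Place k K), T.Finite → ∃ P, P ∉ T ∧ Sep D P ∧ Gen (D - Finsupp.single P 1)) :
    (genus k K : ℤ) ≤ D.deg ^ 2 / 4 - D.deg + 1 := by
  classical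
  set d := D.deg with hd
  have hd3 : 3 ≤ d := by
    have := ell_le_deg_add_one hK (D := D) (by omega)
    omega
  obtain ⟨C, hC⟩ := exists_isCanonical hK
  have hdC := Groth.FunFld1.deg_canonical hK hC
  have hlC := Groth.FunFld1.ell_canonical hK hC
  have hex : ∃ m : ℕ, ell (C - m • D) ≤ 1 := by
    refine ⟨2 * genus k K + 1, ?_⟩
    have : (C - (2 * genus k K + 1) • D).deg < 0 := by
      rw [deg_sub, hdC, deg_nsmul, ← hd]
      push_cast
      nlinarith
    rw [(hF).ell_eq_zero_of_deg_neg this]
    exact zero_le_one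
  set N := Nat.find hex with hN
  have hbig : ∀ m, m < N → 2 ≤ ell (C - m • D) := fun m hm => by
    have := Nat.find_min hex hm
    omega
  have hrr : ∀ m : ℕ, (ell (m • D) : ℤ) = m * d + 1 - genus k K + ell (C - m • D) := fun m => by
    rw [Groth.FunFld1.riemann_roch hK hC (m • D), deg_nsmul]
  haveI : Infinite (Place k K) := Groth.CurveBridge.infinite_place hF
  -- two general places
  obtain ⟨P, hPT, hPs, hPg⟩ := hex'
    (⋃ m ∈ Finset.range N, {S : Place k K | 1 ≤ ell (C - m • D) ∧
      ¬ ell (C - m • D - Finsupp.single S 1) < ell (C - m • D)})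
    ((Finset.range N).finite_toSet.biUnion fun m _ => by
      by_cases h : 1 ≤ ell (C - m • D)
      · exact (finite_base hK h).subset fun S hS => hS.2
      · exact Set.finite_empty.subset fun S hS => h hS.1)
  simp only [Set.mem_iUnion, Finset.mem_range, Set.mem_setOf_eq, not_exists, not_and, not_not] at hPT
  have hDP : Bpf (D - Finsupp.single P 1) := fun R => by
    have := hPs R
    have := hb P
    have := ell_le_single_add hK D P
    omega
  have hDPl : 3 ≤ ell (D - Finsupp.single P 1) := by
    have := hb P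
    have := ell_le_single_add hK D P
    omega
  obtain ⟨Q, hQ⟩ := ((finite_not_sep hK hDP hPg).union
    ((Finset.range N).finite_toSet.biUnion fun m (hm : m ∈ (Finset.range N : Set ℕ)) =>
      finite_base hK (A := C - m • D - Finsupp.single P 1) (by
        have hm' : m < N := Finset.mem_range.mp hm
        have := hbig m hm'
        have := ell_le_single_add hK (C - m • D) P
        omega))).infinite_compl.nonempty
  simp only [Set.mem_compl_iff, Set.mem_union, Set.mem_iUnion, Set.mem_setOf_eq, not_or,
    not_exists, not_not, Finset.mem_coe, Finset.mem_range] at hQ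
  obtain ⟨hQs, hQT⟩ := hQ
  have hE2 : 2 ≤ ell (D - Finsupp.single P 1 - Finsupp.single Q 1) := by
    have := hDP Q
    have := ell_le_single_add hK (D - Finsupp.single P 1) Q
    omega
  set E := D - Finsupp.single P 1 - Finsupp.single Q 1 with hE
  have hEb : ∀ R, ell (E - Finsupp.single R 1) < ell E := fun R => by
    have := hQs R
    have := hDP Q
    have := ell_le_single_add hK (D - Finsupp.single P 1) Q
    rw [hE] at hE2 ⊢
    omega
  -- the second difference
  have hdiff : ∀ m, m < N →
      2 * ell ((m + 1) • D) + 2 ≤ ell ((m + 2) • D) + ell (m • D) := by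
    intro m hm
    have hp := pencil_trick_bpf hK ((m + 1) • D) (by omega) hEb
    have e1 : (m + 1) • D + E = (m + 2) • D - Finsupp.single P 1 - Finsupp.single Q 1 := by
      rw [hE, succ_nsmul D (m + 1)]; abel
    have e2 : (m + 1) • D - E = m • D + Finsupp.single P 1 + Finsupp.single Q 1 := by
      rw [hE, succ_nsmul D m]; abel
    have h1 : ell (m • D + Finsupp.single P 1 + Finsupp.single Q 1) = ell (m • D) := by
      have hr2 := Groth.FunFld1.riemann_roch hK hC (m • D + Finsupp.single P 1 + Finsupp.single Q 1)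
      rw [deg_add, deg_add, deg_single, deg_single, deg_nsmul, deg_eq_one_of_isAlgClosed hF P,
        deg_eq_one_of_isAlgClosed hF Q,
        show C - (m • D + Finsupp.single P 1 + Finsupp.single Q 1) =
          C - m • D - Finsupp.single P 1 - Finsupp.single Q 1 by abel] at hr2
      have := hbig m hm
      have := hPT m hm (by omega)
      have := hQT m hm
      have := ell_le_single_add hK (C - m • D) P
      have := ell_le_single_add hK (C - m • D - Finsupp.single P 1) Q
      have := hrr m
      rw [← hd] at hr2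
      omega
    have h2 : ell ((m + 2) • D - Finsupp.single P 1) < ell ((m + 2) • D) :=
      bpf_nsmul hK hb (m + 1) P
    have h3 : ell ((m + 2) • D - Finsupp.single P 1 - Finsupp.single Q 1) <
        ell ((m + 2) • D - Finsupp.single P 1) := by
      have := attains_add hK (bpf_nsmul hK hb m Q) (hDP Q)
      rwa [show (m + 1) • D + (D - Finsupp.single P 1) = (m + 2) • D - Finsupp.single P 1 by
        rw [succ_nsmul D (m + 1)]; abel] at this
    rw [e1, e2, h1] at hp
    omega
  have hinc : ∀ m, m ≤ N → ell (m • D) + (2 * m + 3) ≤ ell ((m + 1) • D) := by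
    intro m
    induction m with
    | zero =>
      intro _
      rw [zero_nsmul, zero_add, one_nsmul, ell_zero_eq hK]
      omega
    | succ m ih =>
      intro hm
      have := hdiff m (by omega)
      have := ih (by omega)
      rw [show m + 1 + 1 = m + 2 from rfl]
      omega
  have hsum : ∀ m, m ≤ N + 1 → (genus k K : ℤ) - ell (C - m • D) ≤ m * (d - 2 - m) := by
    intro m
    induction m with
    | zero => intro _; simp [hlC]
    | succ m ih =>
      intro hm
      have h1 := ih (by omega)
      have h2 := hinc m (by omega)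
      have h3 := hrr m
      have h4' := hrr (m + 1)
      push_cast at h4' ⊢
      nlinarith
  have hlast : ell (C - (N + 1) • D) = 0 := by
    by_contra hne
    have hN1 : ell (C - N • D) ≤ 1 := Nat.find_spec hex
    have hneB : ∀ A : Divisor k K, 1 ≤ ell A → L A ≠ ⊥ := fun A hA hb => by
      unfold ell at hA; rw [hb, finrank_bot] at hA; omega
    obtain ⟨x, hx, hxe⟩ := (hF).exists_effective_of_ne_bot (hneB D (by omega))
    obtain ⟨y, hy, hye⟩ := (hF).exists_effective_of_ne_bot (hneB (C - (N + 1) • D) (by omega))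
    have h := Groth.CurveBridge.ell_add_ell_le hK hxe hye
    rw [(hF).ell_add_div D hx, (hF).ell_add_div _ hy,
      show D + FunFld.div k x + (C - (N + 1) • D + FunFld.div k y) =
        C - N • D + FunFld.div k (x * y) by rw [(hF).div_mul hx hy, succ_nsmul]; abel,
      (hF).ell_add_div _ (mul_ne_zero hx hy)] at h
    omega
  have h1 := hsum (N + 1) le_rfl
  rw [hlast] at h1
  have h2 : ((genus k K : ℤ) + d - 1) ≤ d ^ 2 / 4 := by
    rw [Int.le_ediv_iff_mul_le (by norm_num : (0 : ℤ) < 4)]
    push_cast at h1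
    nlinarith [sq_nonneg (d - 2 - 2 * ((N : ℤ) + 1))]
  omega

/-- Castelnuovo's bound for a very ample series, in any characteristic. -/
theorem genus_le_castelnuovo_veryAmple {D : Divisor k K} (hb : Bpf D) (hsep : ∀ P, Sep D P)
    (h4 : 4 ≤ ell D) : (genus k K : ℤ) ≤ D.deg ^ 2 / 4 - D.deg + 1 := by
  by_cases hg : genus k K = 0
  · rw [hg, Nat.cast_zero]
    have : D.deg - 1 ≤ D.deg ^ 2 / 4 := by
      rw [Int.le_ediv_iff_mul_le (by norm_num : (0 : ℤ) < 4)]
      nlinarith [sq_nonneg (D.deg - 2)]
    omega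
  · exact genus_le_of_gen_sub hK hb h4 fun T hT =>
      (exists_gen_sub_or_genus_zero hK hb hsep h4 T hT).resolve_left hg

end Groth.CliffIndex.CharFree
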