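import Groth.Agent.CliffIndex.Lemmas
import Groth.Agent.CurveBridge.CliffordApps
import Groth.Agent.Abvar.PicCalc

/-!
Gonality from the Clifford index in genus nine.
-/

set_option linter.style.haveILetI false
set_option linter.unusedSectionVars false

universe u

namespace Groth.CliffIndex

open WithZero FunFld Groth.FunFld1

section Fields

variable {k K : Type*} [Field k] [Field K] [Algebra k K] [IsAlgClosed k]
  (hK : IsFunctionField k K) (hg : genus k K = 9)
include hK hg

theorem low_bound {c : ℤ} (hc : CliffGe k K c) (D : Divisor k K) (h : D.deg ≤ (ell D : ℤ) + 6) :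
    (ell D : ℤ) ≤ 1 ∨ 2 * (ell D : ℤ) - 2 + c ≤ D.deg := by
  by_cases h2 : 2 ≤ ell D
  · exact Or.inr (hc D h2 (by omega))
  · exact Or.inl (by omega)

/-- An extremal class of degree at most eight. -/
theorem exists_low {c : ℤ} (D : Divisor k K) (h2 : 2 ≤ ell D)
    (h1 : 2 ≤ (ell D : ℤ) - (D.deg + 1 - genus k K)) (hd : D.deg = 2 * (ell D : ℤ) - 2 + c) :
    ∃ E : Divisor k K, 2 ≤ ell E ∧ E.deg ≤ 8 ∧ E.deg = 2 * (ell E : ℤ) - 2 + c := by
  by_cases h8 : D.deg ≤ 8
  · exact ⟨D, h2, h8, hd⟩
  · obtain ⟨C, hC⟩ := exists_isCanonical hK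
    have hr := Groth.FunFld1.riemann_roch hK hC D
    have hdC := Groth.FunFld1.deg_canonical hK hC
    rw [hg] at h1 hr hdC
    refine ⟨C - D, by omega, ?_, ?_⟩ <;> rw [deg_sub] <;> omega

/-- A base place of a pencil lowers its degree. -/
theorem pencil_base {E : Divisor k K} (h2 : 2 ≤ ell E) {P : Place k K}
    (hP : ¬ ell (E - Finsupp.single P 1) < ell E) :
    ∃ A : Divisor k K, 2 ≤ ell A ∧ A.deg = E.deg - 1 :=
  ⟨E - Finsupp.single P 1, le_trans h2 (not_lt.mp hP), deg_sub_single hK E P⟩

/-- Clifford index one gives a trigonal pencil. -/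
theorem exists_g13 (hc : CliffGe k K 1) {D : Divisor k K} (h2 : 2 ≤ ell D) (h8 : D.deg ≤ 8)
    (hd : D.deg = 2 * (ell D : ℤ) - 2 + 1) : ∃ A : Divisor k K, 2 ≤ ell A ∧ A.deg = 3 := by
  obtain h | h | h : ell D = 2 ∨ ell D = 3 ∨ ell D = 4 := by omega
  · exact ⟨D, h2, by omega⟩
  · obtain ⟨P, Q, hPQ⟩ := exists_pencil_of_net hK h (by
      rw [hg, show D.deg = 5 by omega]; norm_num)
    exact ⟨_, hPQ, by rw [deg_sub_single hK, deg_sub_single hK]; omega⟩
  · obtain ⟨P⟩ := (IsFF.of_isFunctionField hK).nonempty_place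
    have hd1 := deg_sub_single hK D P
    have h1 := ell_le_single_add hK D P
    have h3 : ell (D - Finsupp.single P 1) = 3 := by
      rcases low_bound hK hg hc (D - Finsupp.single P 1) (by omega) with h' | h' <;> omega
    obtain ⟨Q, R, hQR⟩ := exists_pencil_of_net hK h3 (by
      rw [show (D - Finsupp.single P (1 : ℤ)).deg = 6 by omega, hg]; norm_num)
    set E := D - Finsupp.single P 1 - Finsupp.single Q 1 - Finsupp.single R 1
    have hEd : E.deg = 4 := by
      simp only [E, deg_sub_single hK]; omega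
    have hE2 : ell E = 2 := by rcases low_bound hK hg hc E (by omega) with h' | h' <;> omega
    by_cases hb : ∀ T : Place k K, ell (E - Finsupp.single T 1) < ell E
    · have hp := pencil_trick (IsFF.of_isFunctionField hK) D hE2 hb
      by_cases hA : 2 ≤ ell (D - E)
      · exact ⟨D - E, hA, by rw [deg_sub]; omega⟩
      · exfalso
        have hdd : (D + E).deg = 11 := by rw [deg_add]; omega
        rcases low_bound hK hg hc (D + E) (by omega) with h' | h' <;> omega
    · push Not at hb
      obtain ⟨T, hT⟩ := hb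
      obtain ⟨A, hA, hAd⟩ := pencil_base hK hg hQR (not_lt.mpr hT)
      exact ⟨A, hA, by rw [hAd]; omega⟩

/-- Clifford index two gives a tetragonal pencil. -/
theorem exists_g14 (hc : CliffGe k K 2) {D : Divisor k K} (h2 : 2 ≤ ell D) (h8 : D.deg ≤ 8)
    (hd : D.deg = 2 * (ell D : ℤ) - 2 + 2) : ∃ A : Divisor k K, 2 ≤ ell A ∧ A.deg = 4 := by
  obtain h | h | h : ell D = 2 ∨ ell D = 3 ∨ ell D = 4 := by omega
  · exact ⟨D, h2, by omega⟩
  · obtain ⟨P, Q, hPQ⟩ := exists_pencil_of_net hK h (by
      rw [hg, show D.deg = 6 by omega]; norm_num)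
    exact ⟨_, hPQ, by rw [deg_sub_single hK, deg_sub_single hK]; omega⟩
  · obtain ⟨P⟩ := (IsFF.of_isFunctionField hK).nonempty_place
    have hd1 := deg_sub_single hK D P
    have h1 := ell_le_single_add hK D P
    have h3 : ell (D - Finsupp.single P 1) = 3 := by
      rcases low_bound hK hg hc (D - Finsupp.single P 1) (by omega) with h' | h' <;> omega
    obtain ⟨Q, R, hQR⟩ := exists_pencil_of_net hK h3 (by
      rw [show (D - Finsupp.single P (1 : ℤ)).deg = 7 by omega, hg]; norm_num)
    set E := D - Finsupp.single P 1 - Finsupp.single Q 1 - Finsupp.single R 1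
    have hEd : E.deg = 5 := by
      simp only [E, deg_sub_single hK]; omega
    have hE2 : ell E = 2 := by rcases low_bound hK hg hc E (by omega) with h' | h' <;> omega
    by_cases hb : ∀ T : Place k K, ell (E - Finsupp.single T 1) < ell E
    · exfalso
      have hp := pencil_trick (IsFF.of_isFunctionField hK) D hE2 hb
      have hA : ell (D - E) ≤ 1 := by
        have : (D - E).deg = 3 := by rw [deg_sub]; omega
        rcases low_bound hK hg hc (D - E) (by omega) with h' | h' <;> omega
      have hdd : (D + E).deg = 13 := by rw [deg_add]; omega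
      rcases low_bound hK hg hc (D + E) (by omega) with h' | h' <;> omega
    · push Not at hb
      obtain ⟨T, hT⟩ := hb
      obtain ⟨A, hA, hAd⟩ := pencil_base hK hg hQR (not_lt.mpr hT)
      exact ⟨A, hA, by rw [hAd]; omega⟩

/-- Clifford index three gives a pentagonal pencil. -/
theorem exists_g15 {D : Divisor k K} (h2 : 2 ≤ ell D) (h8 : D.deg ≤ 8)
    (hd : D.deg = 2 * (ell D : ℤ) - 2 + 3) : ∃ A : Divisor k K, 2 ≤ ell A ∧ A.deg = 5 := by
  obtain h | h : ell D = 2 ∨ ell D = 3 := by omega
  · exact ⟨D, h2, by omega⟩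
  · obtain ⟨P, Q, hPQ⟩ := exists_pencil_of_net hK h (by
      rw [hg, show D.deg = 7 by omega]; norm_num)
    exact ⟨_, hPQ, by rw [deg_sub_single hK, deg_sub_single hK]; omega⟩

end Fields

section Curves

open CategoryTheory AlgebraicGeometry Groth.CurveBridge

variable {k : Type u} [Field k] [IsAlgClosed k] {X : Scheme.{u}} [X.Over (Spec (CommRingCat.of k))]
  [IsIntegral X] [IsProper (X ↘ Spec (CommRingCat.of k))] (h : IsRegCurve X) {c : ℤ}
include h

/-- A lower bound on the Clifford index, transported to divisors. -/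
theorem cliffGe_of_modules
    (hmin : ∀ M : X.Modules, PicF.IsInvertible M → 2 ≤ Module.finrank k (Coh.HH X M 0) →
      2 ≤ Module.finrank k (Coh.HH X M 1) →
      2 * (Module.finrank k (Coh.HH X M 0) : ℤ) - 2 + c ≤ Curv2.deg k X M 1) :
    CliffGe k X.functionField c := by
  intro D h2 h1
  have hK := CurveBridge.isFunctionField (k := k) (X := X) h.dim
  obtain ⟨N, φ, U₀, hU₀, e₀, hN, -, hm, hD⟩ := exists_invertible_embedding (k := k) h D
  obtain ⟨n0, nd, n1⟩ := numerics_of_divEmb h hK hN (φ := φ) ⟨hm, hD⟩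
  rw [genus_eq h hK] at n1
  have := hmin N hN (by rw [n0]; exact h2) (by omega)
  rwa [n0, nd] at this

/-- An extremal module, transported to divisors. -/
theorem exists_extremal (hg : Curv2.genus k X = 9)
    (hex : ∃ M : X.Modules, PicF.IsInvertible M ∧ 2 ≤ Module.finrank k (Coh.HH X M 0) ∧
      2 ≤ Module.finrank k (Coh.HH X M 1) ∧
      Curv2.deg k X M 1 = 2 * (Module.finrank k (Coh.HH X M 0) : ℤ) - 2 + c) :
    genus k X.functionField = 9 ∧ ∃ D : Divisor k X.functionField,
      2 ≤ ell D ∧ D.deg ≤ 8 ∧ D.deg = 2 * (ell D : ℤ) - 2 + c := by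
  have hK := CurveBridge.isFunctionField (k := k) (X := X) h.dim
  obtain ⟨M, hM, h0, h1, hd⟩ := hex
  obtain ⟨φ, D, -, n0, nd, n1⟩ := exists_divEmb h hK hM
  rw [genus_eq h hK] at n1 hg
  rw [n0] at h0 hd
  exact ⟨hg, exists_low hK hg D h0 (by omega) (nd ▸ hd)⟩

end Curves

end Groth.CliffIndex
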