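import Groth.Agent.CurveBridge.Clifford
import Groth.Agent.FunFld1.PlaneThms

/-!
Pencils extracted from nets, the pencil trick, and the lower bound given by a Clifford index.
-/

set_option linter.style.haveILetI false
set_option linter.unusedSectionVars false

namespace Groth.CliffIndex

open WithZero FunFld Groth.FunFld1

variable {k K : Type*} [Field k] [Field K] [Algebra k K]

/-- The Clifford index of `K` is at least `c`. -/
def CliffGe (k K : Type*) [Field k] [Field K] [Algebra k K] (c : ℤ) : Prop :=
  ∀ D : Divisor k K, 2 ≤ ell D → 2 ≤ (ell D : ℤ) - (D.deg + 1 - genus k K) →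
    2 * (ell D : ℤ) - 2 + c ≤ D.deg

/-- The pencil trick. -/
theorem pencil_trick (hF : IsFF k K) (A : Divisor k K) {E : Divisor k K} (h2 : ell E = 2)
    (hb : ∀ P : Place k K, ell (E - Finsupp.single P 1) < ell E) :
    2 * ell A ≤ ell (A + E) + ell (A - E) := by
  haveI := hF.finiteDimensional_L E
  haveI := hF.finiteDimensional_L A
  haveI := hF.finiteDimensional_L (A + E)
  haveI := hF.finiteDimensional_L (A - E)
  let b : Module.Basis (Fin 2) k (L E) := Module.finBasisOfFinrankEq k (L E) h2
  let u : K := (b 0 : L E)
  let v : K := (b 1 : L E)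
  have hv : v ≠ 0 := fun h => b.ne_zero 1 (Subtype.ext h)
  have hmax : ∀ P : Place k K, P.1 u = exp (E P) ∨ P.1 v = exp (E P) := by
    intro P
    by_contra hc
    push Not at hc
    refine (hb P).not_ge ?_
    haveI := hF.finiteDimensional_L (E - Finsupp.single P 1)
    have hsmall : ∀ x : L E, P.1 (x : K) ≠ exp (E P) → (x : K) ∈ L (E - Finsupp.single P 1) := by
      intro x hx Q
      by_cases hQ : P = Q
      · subst hQ
        rw [Finsupp.sub_apply, Finsupp.single_eq_same]
        rcases eq_or_ne (P.1 (x : K)) 0 with h0 | h0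
        · rw [h0]; exact zero_le
        · have h1 : P.1 (x : K) < exp (E P) := lt_of_le_of_ne (x.2 P) hx
          rw [← exp_log h0, exp_lt_exp] at h1
          rw [← exp_log h0, exp_le_exp]
          omega
      · rw [Finsupp.sub_apply, Finsupp.single_eq_of_ne (Ne.symm hQ), sub_zero]
        exact x.2 Q
    refine Submodule.finrank_mono fun x hx => ?_
    have hmem : (⟨x, hx⟩ : L E) ∈ Submodule.comap (L E).subtype (L (E - Finsupp.single P 1)) := by
      rw [← b.sum_repr ⟨x, hx⟩]
      refine Submodule.sum_mem _ fun i _ => Submodule.smul_mem _ _ ?_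
      fin_cases i
      · exact hsmall _ hc.1
      · exact hsmall _ hc.2
    exact hmem
  have hmul : ∀ w ∈ L E, ∀ a ∈ L A, w * a ∈ L (A + E) := fun w hw a ha P => by
    rw [map_mul, Finsupp.add_apply, add_comm, exp_add]
    exact mul_le_mul' (hw P) (ha P)
  let Φ : (L A × L A) →ₗ[k] L (A + E) :=
    LinearMap.coprod
      (((LinearMap.mulLeft k u).comp (L A).subtype).codRestrict _ fun a => hmul u (b 0).2 a a.2)
      (((LinearMap.mulLeft k v).comp (L A).subtype).codRestrict _ fun a => hmul v (b 1).2 a a.2)
  have hker : ∀ p ∈ LinearMap.ker Φ, u * (p.1 : K) + v * (p.2 : K) = 0 := fun p hp =>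
    congrArg (fun z : L (A + E) => (z : K)) (LinearMap.mem_ker.mp hp)
  have hmem : ∀ p : LinearMap.ker Φ, (p.1.1 : K) / v ∈ L (A - E) := by
    intro p P
    have h := hker p.1 p.2
    rw [Finsupp.sub_apply]
    by_cases hvP : P.1 v = exp (E P)
    · rw [map_div₀, hvP, sub_eq_add_neg, exp_add, exp_neg, ← div_eq_mul_inv]
      exact div_le_div_of_nonneg_right (p.1.1.2 P) zero_le
    · have hu : P.1 u = exp (E P) := (hmax P).resolve_right hvP
      have hu0 : u ≠ 0 := ne_zero_of_val_eq hu
      have e : (p.1.1 : K) / v = -((p.1.2 : K) / u) := by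
        field_simp
        linear_combination h
      rw [e, Valuation.map_neg, map_div₀, hu, sub_eq_add_neg, exp_add, exp_neg, ← div_eq_mul_inv]
      exact div_le_div_of_nonneg_right (p.1.2.2 P) zero_le
  let Ψ : LinearMap.ker Φ →ₗ[k] L (A - E) :=
    ((LinearMap.mulRight k v⁻¹).comp ((L A).subtype.comp
      ((LinearMap.fst k (L A) (L A)).comp (LinearMap.ker Φ).subtype))).codRestrict _ fun p => by
        simpa [div_eq_mul_inv] using hmem p
  have hΨ : Function.Injective Ψ := by
    refine (injective_iff_map_eq_zero _).2 fun p hp => ?_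
    have h1 : (p.1.1 : K) * v⁻¹ = 0 := congrArg (fun z : L (A - E) => (z : K)) hp
    have ha : (p.1.1 : K) = 0 := (mul_eq_zero.mp h1).resolve_right (inv_ne_zero hv)
    have h := hker p.1 p.2
    rw [ha, mul_zero, zero_add] at h
    have hb' : (p.1.2 : K) = 0 := (mul_eq_zero.mp h).resolve_left hv
    exact Subtype.ext (Prod.ext (Subtype.ext ha) (Subtype.ext hb'))
  have h1 := LinearMap.finrank_range_add_finrank_ker Φ
  rw [Module.finrank_prod] at h1
  have h2' := Submodule.finrank_le (LinearMap.range Φ)
  have h3 := LinearMap.finrank_le_finrank_of_injective hΨ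
  unfold ell
  omega

variable [IsAlgClosed k] (hK : IsFunctionField k K)
include hK

theorem ell_le_single_add (D : Divisor k K) (P : Place k K) :
    ell D ≤ ell (D - Finsupp.single P 1) + 1 := by
  have hF := IsFF.of_isFunctionField hK
  have := hF.ell_sub_le (D := D - Finsupp.single P 1) (E := D)
    (sub_le_self _ (Finsupp.single_nonneg.mpr zero_le_one))
  rw [deg_sub, deg_single, deg_eq_one_of_isAlgClosed hF P] at this
  omega

theorem ell_single_sub_le (D : Divisor k K) (P : Place k K) :
    ell (D - Finsupp.single P 1) ≤ ell D :=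
  Groth.CurveBridge.ell_mono (IsFF.of_isFunctionField hK)
    (sub_le_self _ (Finsupp.single_nonneg.mpr zero_le_one))

theorem deg_sub_single (D : Divisor k K) (P : Place k K) :
    (D - Finsupp.single P 1).deg = D.deg - 1 := by
  rw [deg_sub, deg_single, deg_eq_one_of_isAlgClosed (IsFF.of_isFunctionField hK) P, Nat.cast_one,
    mul_one]

/-- A net whose genus is not that of a smooth plane curve contains a pencil of two less degree. -/
theorem exists_pencil_of_net {D : Divisor k K} (h3 : ell D = 3)
    (hg : 2 * (genus k K : ℤ) ≠ (D.deg - 1) * (D.deg - 2)) :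
    ∃ P Q : Place k K, 2 ≤ ell (D - Finsupp.single P 1 - Finsupp.single Q 1) := by
  classical
  have hF := IsFF.of_isFunctionField hK
  by_contra hno
  push Not at hno
  haveI := hF.finiteDimensional_L D
  let b : Module.Basis (Fin 3) k (L D) := Module.finBasisOfFinrankEq k (L D) h3
  let w : K := (b 0 : L D)
  have hw : w ≠ 0 := fun h => b.ne_zero 0 (Subtype.ext h)
  let D' := D + FunFld.div k w
  have hshift : ∀ E : Divisor k K, ell (E + FunFld.div k w) = ell E := fun E => hF.ell_add_div E hw
  have hno' : ∀ P Q : Place k K, ell (D' - Finsupp.single P 1 - Finsupp.single Q 1) = 1 := by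
    intro P Q
    rw [show D' - Finsupp.single P 1 - Finsupp.single Q 1 =
      D - Finsupp.single P 1 - Finsupp.single Q 1 + FunFld.div k w by simp only [D']; abel, hshift]
    have h1 := ell_le_single_add hK D P
    have h2 := ell_le_single_add hK (D - Finsupp.single P 1) Q
    have h3' := hno P Q
    omega
  have hD'3 : ell D' = 3 := (hshift D).trans h3
  let x : K := (b 1 : L D) / w
  let y : K := (b 2 : L D) / w
  have hmem : ∀ i, ![(1 : K), x, y] i ∈ L D' := by
    intro i P
    have hval : ∀ j, P.1 (((b j : L D) : K) / w) ≤ exp (D' P) := fun j => by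
      rw [Finsupp.add_apply, hF.div_apply, exp_add, map_div₀, val_eq_exp_neg_ord P hw,
        exp_neg, div_inv_eq_mul]
      exact mul_le_mul' ((b j).2 P) le_rfl
    fin_cases i
    · have := hval 0
      rwa [show ((b 0 : L D) : K) = w from rfl, div_self hw] at this
    · exact hval 1
    · exact hval 2
  haveI := hF.finiteDimensional_L D'
  have hspan : Submodule.span k (Set.range ![(1 : K), x, y]) = L D' := by
    have hli : LinearIndependent k ![(1 : K), x, y] := by
      have h := (b.linearIndependent.map' (L D).subtype (Submodule.ker_subtype _)).map'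
        (LinearMap.mulRight k w⁻¹) (LinearMap.ker_eq_bot.mpr (mul_left_injective₀ (inv_ne_zero hw)))
      have e : (![(1 : K), x, y] : Fin 3 → K) =
          (LinearMap.mulRight k w⁻¹) ∘ ((L D).subtype ∘ b) := by
        funext i
        fin_cases i
        · exact (mul_inv_cancel₀ hw).symm
        · exact div_eq_mul_inv _ _
        · exact div_eq_mul_inv _ _
      rw [e]
      exact h
    refine Submodule.eq_of_le_of_finrank_le (Submodule.span_le.mpr ?_) ?_
    · rintro _ ⟨i, rfl⟩
      exact hmem i
    · rw [finrank_span_eq_card hli, Fintype.card_fin]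
      exact hD'3.le
  have hd := deg_eq_one_of_isAlgClosed hF
  have hns : ∀ P : Place k K, IsNonsingularAt ![(1 : K), x, y] P := by
    intro P
    refine nonsingular_of_codim hK hd hspan.le P fun Q => ?_
    rw [hspan, inf_eq_right.mpr (L_mono ((sub_le_self _ (Finsupp.single_nonneg.mpr zero_le_one)).trans
      (sub_le_self _ (Finsupp.single_nonneg.mpr zero_le_one))))]
    show ell _ + 2 = ell _
    rw [hno', hD'3]
  have hxy : IntermediateField.adjoin k ({x, y} : Set K) = ⊤ := by
    refine eq_top_iff.mpr fun z _ => ?_
    obtain ⟨P⟩ := hF.nonempty_place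
    let T := IntermediateField.adjoin k ({x, y} : Set K)
    have key : ∀ z : K, P.1 z ≤ 1 → z ∈ T := by
      intro z hz
      obtain ⟨j, hj, -, u, hu, t, ht, ht1, he⟩ := hns P z hz
      have hall : ∀ i, ![(1 : K), x, y] i ∈ T := by
        intro i
        fin_cases i
        · exact one_mem T
        · exact IntermediateField.subset_adjoin k _ (Set.mem_insert _ _)
        · exact IntermediateField.subset_adjoin k _ (Set.mem_insert_of_mem _ rfl)
      have hsub : Algebra.adjoin k (Set.range fun i => ![(1 : K), x, y] i / ![(1 : K), x, y] j) ≤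
          T.toSubalgebra := Algebra.adjoin_le (by
        rintro _ ⟨i, rfl⟩
        exact (SetLike.mem_coe).mpr (div_mem (hall i) (hall j) : (_ : K) ∈ T))
      have ht0 : t ≠ 0 := fun h => by rw [h, map_zero] at ht1; exact zero_ne_one ht1
      rw [show z = u / t by rw [← he, mul_div_assoc, div_self ht0, mul_one]]
      exact div_mem (show u ∈ T from hsub hu) (show t ∈ T from hsub ht)
    rcases le_or_gt (P.1 z) 1 with h | h
    · exact key z h
    · have := key z⁻¹ (by rw [map_inv₀]; exact inv_le_one_of_one_le₀ h.le)
      simpa using inv_mem this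
  have hmap : mapDiv k ![(1 : K), x, y] = D' := by
    ext P
    have hle : ∀ i, ![(1 : K), x, y] i ≠ 0 → -D' P ≤ P.ord (![(1 : K), x, y] i) := fun i hi => by
      have := hmem i P
      rw [val_le_exp_iff P hi] at this
      omega
    refine le_antisymm ?_ ?_
    · obtain ⟨i, hi⟩ := hF.exists_ord_eq_neg_mapDiv ![(1 : K), x, y] P
      by_cases h0 : ![(1 : K), x, y] i = 0
      · rw [h0, ord_zero] at hi
        have h0' := hle 0 one_ne_zero
        simp only [Matrix.cons_val_zero, ord_one] at h0'
        omega
      · have := hle i h0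
        omega
    · by_contra hlt
      push Not at hlt
      have hbad : L D' ≤ L (D' - Finsupp.single P 1) := by
        rw [← hspan, Submodule.span_le]
        rintro _ ⟨i, rfl⟩ Q
        by_cases hQ : P = Q
        · subst hQ
          rw [Finsupp.sub_apply, Finsupp.single_eq_same]
          by_cases h0 : ![(1 : K), x, y] i = 0
          · rw [h0, map_zero]; exact zero_le
          · rw [val_le_exp_iff P h0]
            have := hF.ord_ge_neg_mapDiv ![(1 : K), x, y] P i
            omega
        · rw [Finsupp.sub_apply, Finsupp.single_eq_of_ne (Ne.symm hQ), sub_zero]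
          exact hmem i Q
      haveI := hF.finiteDimensional_L (D' - Finsupp.single P 1)
      have h1 : ell D' ≤ ell (D' - Finsupp.single P 1) := Submodule.finrank_mono hbad
      have h2 := ell_le_single_add hK (D' - Finsupp.single P 1) P
      rw [hno', hD'3] at *
      omega
  have := (two_mul_genus_eq_iff hK hxy).mpr hns
  rw [hmap] at this
  refine hg (this.trans ?_)
  simp only [D', deg_add, hF.deg_div, add_zero]

end Groth.CliffIndex
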