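import Groth.Agent.CliffIndex.One
import Groth.Agent.CurveBridge.LinSeries
import Groth.Agent.CurveBridge.SubLine
import Groth.Agent.CurveBridge.CliffordEquality
import Groth.Agent.CurveBridge.Omega

/-!
Clifford index bounds behind the linear stability of projections of canonical curves.
-/

set_option linter.style.haveILetI false
set_option linter.unusedSectionVars false
set_option backward.isDefEq.respectTransparency.types false

universe u

open CategoryTheory AlgebraicGeometry Opposite

namespace Groth.CliffIndex

section Fields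

open WithZero FunFld Groth.FunFld1

variable {k K : Type*} [Field k] [Field K] [Algebra k K] [IsAlgClosed k] (hK : IsFunctionField k K)
include hK

/-- Without a pencil of degree two the Clifford index is positive. -/
theorem cliffGe_one_of_no_g12 (hno : ∀ N : Divisor k K, N.deg = 2 → ell N < 2) : CliffGe k K 1 := by
  intro D h2 h1
  obtain ⟨C, hC⟩ := exists_isCanonical hK
  have hr := riemann_roch hK hC D
  have hne : ∀ A : Divisor k K, 1 ≤ ell A → L A ≠ ⊥ := fun A hA hb => by
    unfold ell at hA; rw [hb, finrank_bot] at hA; omega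
  have hc := Groth.CurveBridge.clifford hK hC (hne D (by omega)) (hne _ (by omega))
  by_contra hlt
  have hc' := Groth.CurveBridge.clifford hK hC (D := C - D) (hne _ (by omega))
    (by rw [sub_sub_cancel]; exact hne D (by omega))
  rw [deg_sub, deg_canonical hK hC] at hc'
  obtain ⟨N, hNd, hNl, -⟩ := Groth.CurveBridge.CliffordEquality.clifford_eq hK hC (D := D) (by omega) (by omega) (by omega)
  have := hno N hNd
  omega

/-- A curve which is neither trigonal nor a plane quintic has Clifford index at least two. -/
theorem cliffGe_two (hg : 4 ≤ genus k K) (hc : CliffGe k K 1) (h3 : ∀ A : Divisor k K, A.deg = 3 → ell A < 2)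
    (hq : genus k K = 6 → ∀ D : Divisor k K, ell D = 3 →
      ¬ ∀ P Q, ell (D - Finsupp.single P 1 - Finsupp.single Q 1) + 2 = ell D) : CliffGe k K 2 := by
  intro D h2 h1
  by_contra hlt
  have := hc D h2 h1
  rcases exists_g13_or_sep hK hg hc ⟨D, h2, h1, by omega⟩ with ⟨A, hA, hAd⟩ | ⟨h6, A, hA, hs⟩
  · have := h3 A hAd; omega
  · exact hq h6 A hA hs

/-- On a trigonal curve the extremal series are the pencil and its residual. -/
theorem extremal_of_trigonal (hg : 5 ≤ genus k K) (hc : CliffGe k K 1) {A : Divisor k K} (hAd : A.deg = 3)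
    (hA : 2 ≤ ell A) {D : Divisor k K} (h2 : 2 ≤ ell D)
    (h1 : 2 ≤ (ell D : ℤ) - (D.deg + 1 - genus k K)) (hd : D.deg = 2 * (ell D : ℤ) - 1) :
    ell D = 2 ∨ (ell D : ℤ) - (D.deg + 1 - genus k K) = 2 := by
  by_contra hboth
  push Not at hboth
  obtain ⟨hr, hs⟩ := hboth
  have hF := IsFF.of_isFunctionField hK
  have hA2 : ell A = 2 := by
    have := hc A hA (by omega)
    omega
  have hb : ∀ P : Place k K, ell (A - Finsupp.single P 1) < ell A := fun P => by
    by_contra hle
    have hd' := deg_sub_single hK A P
    have := hc (A - Finsupp.single P 1) (by omega) (by omega)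
    omega
  have hp := pencil_trick hF D hA2 hb
  have hAD : (D + A).deg = D.deg + 3 := by rw [deg_add, hAd]
  have hDA : (D - A).deg = D.deg - 3 := by rw [deg_sub, hAd]
  have h3 := hc (D + A)
  have h4 := hc (D - A)
  omega

end Fields

variable {k : Type u} [Field k] [IsAlgClosed k] {X : Scheme.{u}} [X.Over (Spec (CommRingCat.of k))]
  [IsIntegral X] [IsProper (X ↘ Spec (CommRingCat.of k))]

open Groth.CurveBridge Groth.Chow
open scoped Groth.CurveBridge

/-- Sections with independent images are independent. -/
theorem le_finrank_of_images {M N : X.Modules} (ι : M ⟶ N) [Module.Finite k (Coh.HH X M 0)] {m : ℕ}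
    (w : Fin m → LinSer.Sect X N) (hw : LinSer.LinIndep k X N w) (v : Fin m → LinSer.Sect X M)
    (hv : ∀ j, (ι.val.app (op ⊤)).hom (v j) = w j) :
    LinSer.LinIndep k X M v ∧ m ≤ Module.finrank k (Coh.HH X M 0) := by
  have hli : LinSer.LinIndep k X M v := fun c hc => hw c (by
    have h1 := congrArg (ι.val.app (op ⊤)).hom hc
    rw [map_sum, map_zero] at h1
    rw [← h1]
    refine Finset.sum_congr rfl fun j _ => ?_
    rw [← hv j]
    exact ((ι.val.app (op ⊤)).hom.map_smul _ _).symm)
  exact ⟨hli, le_finrank_of_linIndep v hli⟩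

/-- Numerical data of a submodule of the canonical module. -/
theorem exists_numerics_sub_omega (h : IsRegCurve X) [Smooth (X ↘ Spec (CommRingCat.of k))]
    {M : X.Modules} (hM : PicF.IsInvertible M) (ι : M ⟶ Omega.sheaf (X ↘ Spec (CommRingCat.of k))) [Mono ι] :
    ∃ D : FunFld.Divisor k X.functionField,
      Module.finrank k (Coh.HH X M 0) = FunFld.ell D ∧ Curv2.deg k X M 1 = D.deg ∧
      1 ≤ (FunFld.ell D : ℤ) - (D.deg + 1 - FunFld.genus k X.functionField) ∧
      D.deg ≤ 2 * (FunFld.genus k X.functionField : ℤ) - 2 ∧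
      Curv2.deg k X (Omega.sheaf (X ↘ Spec (CommRingCat.of k))) 1 =
        2 * (FunFld.genus k X.functionField : ℤ) - 2 := by
  have hK := Groth.CurveBridge.isFunctionField (k := k) (X := X) h.dim
  obtain ⟨φ, D, -, d0, dd, d1⟩ := exists_divEmb h hK hM
  obtain ⟨o0, o1, od⟩ := omega_numerics (k := k) (X := X) h
  obtain ⟨e, hde, -, -, hh1, -⟩ := sub_numerics ι k h.dim hM (isInvertible_omega hK)
  rw [genus_eq h hK] at d1 od
  exact ⟨D, d0, dd, by omega, by omega, od⟩

end Groth.CliffIndex
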