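import Groth.Agent.CliffIndex.GeneralPosition
import Groth.Agent.CurveBridge.ToLine
import Groth.Agent.CurveBridge.VeryAmple
import Groth.Agent.CurveBridge.SpaceCurve
import Groth.Agent.CurveBridge.Main
import Groth.Agent.PlaneCurve.DoubleCover
import Groth.Prelude.Def_LinSer

/-!
The divisor of a non-degenerate morphism of a curve to projective space; birationality.
-/

set_option linter.style.haveILetI false
set_option linter.unusedSectionVars false
set_option backward.isDefEq.respectTransparency.types false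

universe u

open CategoryTheory CategoryTheory.Limits AlgebraicGeometry Opposite TopologicalSpace WithZero
open Groth.PicAux Groth.Chow Groth.CurveBridge Groth.FunFld1
open scoped Groth.CurveBridge

namespace Groth.CliffIndex.MapSeries

variable {k : Type u} [Field k] {X : Scheme.{u}} [X.Over (Spec (CommRingCat.of k))] [IsIntegral X]
  [IsProper (X ↘ Spec (CommRingCat.of k))] {n : ℕ}

omit [IsProper (X ↘ Spec (CommRingCat.of k))] in
/-- A morphism surjective on the generic stalk has coordinates generating the function field. -/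
theorem adjoin_coord_eq_top {f : X ⟶ CohB1.ProjSpace n k} {L : X.Modules}
    {s : Fin (n + 1) → ProjUP.Γm L} (hU : ⨆ i, ToPn.U L s i = ⊤)
    (hr : ∀ i, (ToPn.U L s i).ι ≫ f = ToPn.rU (X ↘ Spec (CommRingCat.of k)) L s i)
    (i : Fin (n + 1)) (hη : genericPoint X ∈ ToPn.U L s i)
    (hsurj : Function.Surjective (f.stalkMap (genericPoint X))) :
    IntermediateField.adjoin k (Set.range fun l =>
      X.presheaf.germ (ToPn.U L s i) (genericPoint X) hη (ToPn.c L s i l)) = ⊤ := by
  let gi : Γ(X, ToPn.U L s i) →+* X.functionField :=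
    (X.presheaf.germ (ToPn.U L s i) (genericPoint X) hη).hom
  set F := IntermediateField.adjoin k (Set.range fun l =>
      X.presheaf.germ (ToPn.U L s i) (genericPoint X) hη (ToPn.c L s i l))
  let Φ : (CohB1.ProjSpace n k).presheaf.stalk (f (genericPoint X)) →+* X.functionField :=
    (f.stalkMap (genericPoint X)).hom
  have hbase : ∀ a : k, gi (ToPn.baseMap (X ↘ Spec (CommRingCat.of k)) L s i a) =
      algebraMap k X.functionField a := fun a =>
    TopCat.Presheaf.germ_res_apply X.presheaf _ (genericPoint X) hη _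
  have heval : ∀ p : MvPolynomial (Fin (n + 1)) k,
      gi (MvPolynomial.eval₂ (ToPn.baseMap (X ↘ Spec (CommRingCat.of k)) L s i) (ToPn.c L s i) p) ∈ F := by
    intro p
    induction p using MvPolynomial.induction_on with
    | C a => rw [MvPolynomial.eval₂_C, hbase]; exact F.algebraMap_mem a
    | add p q hp hq => rw [MvPolynomial.eval₂_add, map_add]; exact add_mem hp hq
    | mul_X p l hp =>
      rw [MvPolynomial.eval₂_mul, MvPolynomial.eval₂_X, map_mul]
      exact mul_mem hp (IntermediateField.subset_adjoin k _ ⟨l, rfl⟩)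
  let D : (CohB1.ProjSpace n k).Opens := Proj.basicOpen (CohB1.polyGrading n k) (MvPolynomial.X i)
  have hfD : f (genericPoint X) ∈ D := (ToPn.preimage_D hr hU i).ge hη
  have hsec : ∀ z, Φ ((CohB1.ProjSpace n k).presheaf.germ D (f (genericPoint X)) hfD
      (Proj.awayToSection (CohB1.polyGrading n k) (MvPolynomial.X i) z)) =
        gi (ToPn.α (X ↘ Spec (CommRingCat.of k)) L s i z) := fun z => by
    refine (Scheme.Hom.germ_stalkMap_apply f D (genericPoint X) hfD _).trans ?_
    rw [← ToPn.appLE_awayToSection hr i (ToPn.preimage_D hr hU i).ge z]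
    exact (TopCat.Presheaf.germ_res_apply X.presheaf _ (genericPoint X) hη _).symm
  refine eq_top_iff.mpr fun z _ => ?_
  obtain ⟨a, rfl⟩ := hsurj z
  have hD : IsAffineOpen D :=
    Proj.isAffineOpen_basicOpen (CohB1.polyGrading n k) _ (ToPn.X_mem i) one_pos
  letI := TopCat.Presheaf.algebra_section_stalk (CohB1.ProjSpace n k).presheaf (⟨_, hfD⟩ : D)
  haveI := hD.isLocalization_stalk ⟨_, hfD⟩
  obtain ⟨⟨g, m⟩, hgm⟩ := IsLocalization.surj (hD.primeIdealOf ⟨_, hfD⟩).asIdeal.primeCompl a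
  have hmem : ∀ g : Γ(CohB1.ProjSpace n k, D),
      Φ ((CohB1.ProjSpace n k).presheaf.germ D (f (genericPoint X)) hfD g) ∈ F := fun g => by
    obtain ⟨z, hz⟩ := (ConcreteCategory.bijective_of_isIso
      (Proj.basicOpenIsoAway (CohB1.polyGrading n k) (MvPolynomial.X i) (ToPn.X_mem i) one_pos).hom).2 g
    obtain ⟨d, p, hp, rfl⟩ := HomogeneousLocalization.Away.mk_surjective _ (ToPn.X_mem i) z
    rw [show g = Proj.awayToSection (CohB1.polyGrading n k) (MvPolynomial.X i) _ from hz.symm,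
      hsec, ToPn.α, ToPn.chart_mk]
    exact heval p
  have hu : IsUnit (Φ ((CohB1.ProjSpace n k).presheaf.germ D (f (genericPoint X)) hfD m.1)) :=
    (IsLocalization.map_units _ m).map Φ
  have h1 := congrArg Φ hgm
  rw [map_mul] at h1
  have h2 : Φ a = Φ ((CohB1.ProjSpace n k).presheaf.germ D (f (genericPoint X)) hfD g) /
      Φ ((CohB1.ProjSpace n k).presheaf.germ D (f (genericPoint X)) hfD m.1) := by
    rw [eq_div_iff hu.ne_zero]
    exact h1
  show Φ a ∈ F
  rw [h2]
  exact div_mem (hmem g) (hmem m.1)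

omit [IsProper (X ↘ Spec (CommRingCat.of k))] in
/-- A morphism birational onto a closed image is surjective on the generic stalk. -/
theorem stalk_surjective_of_birational {Y : Scheme.{u}} (j : Y ⟶ CohB1.ProjSpace n k)
    [IsClosedImmersion j] (φ : X ⟶ Y)
    (hbir : ∃ U : Y.Opens, (U : Set Y).Nonempty ∧ IsIso (φ ∣_ U)) :
    Function.Surjective ((φ ≫ j).stalkMap (genericPoint X)) := by
  obtain ⟨U, ⟨y, hy⟩, hiso⟩ := hbir
  haveI := hiso
  let x : ↥(φ ⁻¹ᵁ U) := (inv (φ ∣_ U)) ⟨y, hy⟩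
  have hη : genericPoint X ∈ φ ⁻¹ᵁ U := (genericPoint_specializes x.1).mem_open (φ ⁻¹ᵁ U).2 x.2
  have h1 : (φ ⁻¹ᵁ U).ι ≫ φ ≫ j = (φ ∣_ U) ≫ U.ι ≫ j := by
    rw [← Category.assoc, ← morphismRestrict_ι, Category.assoc]
  haveI : SurjectiveOnStalks ((φ ⁻¹ᵁ U).ι ≫ φ ≫ j) := by rw [h1]; infer_instance
  have h2 := ((φ ⁻¹ᵁ U).ι ≫ φ ≫ j).stalkMap_surjective ⟨genericPoint X, hη⟩
  rw [Scheme.Hom.stalkMap_comp] at h2
  intro z
  obtain ⟨a, ha⟩ := h2 ((φ ⁻¹ᵁ U).ι.stalkMap ⟨genericPoint X, hη⟩ z)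
  exact ⟨a, (ConcreteCategory.bijective_of_isIso ((φ ⁻¹ᵁ U).ι.stalkMap ⟨genericPoint X, hη⟩)).1 ha⟩

variable [IsAlgClosed k] (h : IsRegCurve X)
include h

/-- The complete series of a non-degenerate morphism. -/
theorem exists_series (r : ℕ) (ψ : X ⟶ CohB1.ProjSpace r k)
    (hψ : ψ ≫ CohB1.ProjSpace.toSpec r k = X ↘ Spec (CommRingCat.of k))
    (hnd : ∀ s : LinSer.Sect (CohB1.ProjSpace r k) (Twist.twistProjSpace r k 1), s ≠ 0 →
      OmegaSh.pullSect ψ (Twist.twistProjSpace r k 1) ⊤ s ≠ 0) :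
    ∃ D : FunFld.Divisor k X.functionField, GenPos.Bpf D ∧
      Curv2.deg k X ((Scheme.Modules.pullback ψ).obj (Twist.twistProjSpace r k 1)) 1 = D.deg ∧
      r + 1 ≤ FunFld.ell D ∧
      (Function.Surjective (ψ.stalkMap (genericPoint X)) → GenPos.Gen D) := by
  have hK := isFunctionField (k := k) (X := X) h.dim
  have hF := isFF k X h.dim
  obtain ⟨L, s, hL, hU, ⟨e⟩, hr⟩ := ToLine.exists_sections r ψ hψ
  obtain ⟨φ, D, hφ, d0, dd, -⟩ := exists_divEmb h hK hL
  haveI := hφ.1
  refine ⟨D, fun P => ?_, (Groth.EulerDeg.deg_congr k e 1).trans dd, ?_, fun hsurj => ?_⟩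
  · obtain ⟨x, rfl⟩ := placeAt_surjective (k := k) h P
    obtain ⟨i, hi⟩ := Opens.mem_iSup.mp (hU.ge (Set.mem_univ x.1))
    haveI := hF.finiteDimensional_L D
    refine Submodule.finrank_lt_finrank_of_lt (lt_of_le_not_ge
      (L_mono (sub_le_self _ (Finsupp.single_nonneg.mpr zero_le_one))) fun hle => ?_)
    have h1 := hle (zv_mem h hφ (s i)) (placeAt (k := k) h x)
    rw [(mem_U_iff h s hφ hL i x).mp hi, Finsupp.sub_apply, Finsupp.single_eq_same, exp_le_exp] at h1
    omega
  · rcases SpaceCurve.choose_le_h0_or_exists ψ hψ (fun M hM => finite_h h hK hM 0) 1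
      (isInvertible_pullback ψ (ToPn.twist_isInvertible (R := k) (n := r))) with h1 | ⟨Q, hQ, hQ0⟩
    · rw [Nat.choose_one_right] at h1
      rw [← d0, ← Groth.EulerDeg.finrank_congr e 0]
      exact h1
    · exact absurd hQ0 (hnd Q hQ)
  · obtain ⟨i, hη⟩ := Opens.mem_iSup.mp (hU.ge (Set.mem_univ (genericPoint X)))
    refine top_le_iff.mp ((adjoin_coord_eq_top hU hr i hη hsurj).ge.trans
      (IntermediateField.adjoin.mono k _ _ ?_))
    rintro _ ⟨l, rfl⟩
    obtain ⟨P⟩ := hF.nonempty_place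
    have hne : zv φ (s i) ≠ 0 := fun h0 => by
      obtain ⟨x, rfl⟩ := placeAt_surjective (k := k) h P
      obtain ⟨j, hj⟩ := Opens.mem_iSup.mp (hU.ge (Set.mem_univ x.1))
      have h1 := (mem_U_iff h s hφ hL j x).mp hj
      rw [zv_coord s (φ := φ) i j hη, h0, mul_zero, map_zero] at h1
      exact exp_ne_zero h1.symm
    exact ⟨_, zv_mem h hφ (s l), _, zv_mem h hφ (s i), by
      rw [zv_coord s (φ := φ) i l hη, mul_div_assoc, div_self hne, mul_one]⟩

end Groth.CliffIndex.MapSeries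

namespace Groth.CliffIndex.MapSeries

variable {k : Type u} [Field k] [IsAlgClosed k] {X : Scheme.{u}} [X.Over (Spec (CommRingCat.of k))]
  [IsIntegral X] [IsProper (X ↘ Spec (CommRingCat.of k))] (h : IsRegCurve X)
include h

/-- A series containing a birational morphism is birational. -/
theorem gen_of_mono {r : ℕ} (ψ : X ⟶ CohB1.ProjSpace r k)
    (hψ : ψ ≫ CohB1.ProjSpace.toSpec r k = X ↘ Spec (CommRingCat.of k))
    (hsurj : Function.Surjective (ψ.stalkMap (genericPoint X)))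
    {L : X.Modules} {φ : L ⟶ constK X} {D : FunFld.Divisor k X.functionField} (hφ : IsDivEmb h φ D)
    (ι : (Scheme.Modules.pullback ψ).obj (Twist.twistProjSpace r k 1) ⟶ L) [Mono ι] :
    GenPos.Gen D := by
  have hF := isFF k X h.dim
  haveI := hφ.1
  obtain ⟨L', s, hL', hU, ⟨e⟩, hr⟩ := ToLine.exists_sections r ψ hψ
  obtain ⟨i, hη⟩ := Opens.mem_iSup.mp (hU.ge (Set.mem_univ (genericPoint X)))
  refine top_le_iff.mp ((adjoin_coord_eq_top hU hr i hη hsurj).ge.trans
    (IntermediateField.adjoin.mono k _ _ ?_))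
  rintro _ ⟨l, rfl⟩
  let χ : L' ⟶ constK X := e.inv ≫ ι ≫ φ
  haveI : Mono χ := inferInstance
  have hmem : ∀ m, zv χ (s m) ∈ FunFld.L D := fun m => zv_mem h hφ ((e.inv ≫ ι).app ⊤ (s m))
  have hne : zv χ (s i) ≠ 0 := fun h0 => by
    have hs : s i = 0 := Groth.CurveBridge.app_injective χ ⊤ (kv_injective
      (show genericPoint X ∈ (⊤ : X.Opens) from trivial) (h0.trans (by rw [map_zero, map_zero])))
    have hg := Groth.PlaneCurve.ne_zero_of_mem_gloc (X := X) (L := L') (t := s i) (x := genericPoint X) hη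
    exact hg hs
  exact ⟨_, hmem l, _, hmem i, by
    rw [zv_coord s (φ := χ) i l hη, mul_div_assoc, div_self hne, mul_one]⟩

omit h in
/-- Non-degeneracy descends along a composition. -/
theorem nondeg_of_comp {G : Scheme.{u}} {r : ℕ} (π : X ⟶ G) (ψ : G ⟶ CohB1.ProjSpace r k)
    (hnd : ∀ s : LinSer.Sect (CohB1.ProjSpace r k) (Twist.twistProjSpace r k 1), s ≠ 0 →
      OmegaSh.pullSect (π ≫ ψ) (Twist.twistProjSpace r k 1) ⊤ s ≠ 0)
    (s : LinSer.Sect (CohB1.ProjSpace r k) (Twist.twistProjSpace r k 1)) (hs : s ≠ 0) :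
    OmegaSh.pullSect ψ (Twist.twistProjSpace r k 1) ⊤ s ≠ 0 := by
  intro h0
  refine hnd s hs ?_
  refine Eq.trans (Groth.PicAux.pullSec_comp π ψ (Twist.twistProjSpace r k 1)
    (U := (⊤ : (CohB1.ProjSpace r k).Opens)) s).symm ?_
  have h1 : Groth.PicAux.pullSec ψ (Twist.twistProjSpace r k 1)
      (U := (⊤ : (CohB1.ProjSpace r k).Opens)) s = 0 := h0
  rw [h1]
  have h2 : Groth.PicAux.pullSec π ((Scheme.Modules.pullback ψ).obj (Twist.twistProjSpace r k 1))
      (U := ψ ⁻¹ᵁ ⊤) 0 = 0 :=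
    map_zero (((Scheme.Modules.pullbackPushforwardAdjunction π).unit.app _).app (ψ ⁻¹ᵁ ⊤)).hom
  rw [h2, map_zero]
  rfl

end Groth.CliffIndex.MapSeries
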