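import Groth.Agent.CliffIndex.Lemmas
import Groth.Agent.CurveBridge.CliffordEquality
import Groth.Agent.FunFld1.GenusOne
import Mathlib.LinearAlgebra.Dual.Lemmas

/-!
Noether's theorem: for a non-hyperelliptic function field the canonical ring is generated in degree one.
-/

set_option linter.style.haveILetI false
set_option linter.unusedSectionVars false

namespace Groth.CliffIndex.Noether

open WithZero FunFld Groth.FunFld1

variable {k K : Type*} [Field k] [Field K] [Algebra k K] [IsAlgClosed k]
  (hK : IsFunctionField k K)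
include hK

local notation "hF" => IsFF.of_isFunctionField hK

/-- A bound on one value cuts down a space by at most one dimension. -/
theorem drop_one {M : Type*} [AddCommGroup M] [Module k M] (W : Submodule k M) [FiniteDimensional k W]
    (e : M →ₗ[k] K) (P : Place k K) (n : ℤ) (hle : ∀ m ∈ W, P.1 (e m) ≤ exp n) :
    ∃ W' : Submodule k M, W' ≤ W ∧ Module.finrank k W ≤ Module.finrank k W' + 1 ∧
      ∀ m ∈ W', P.1 (e m) ≤ exp (n - 1) := by
  by_cases hall : ∀ m ∈ W, P.1 (e m) ≤ exp (n - 1)
  · exact ⟨W, le_rfl, Nat.le_succ _, hall⟩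
  push Not at hall
  obtain ⟨m₀, hm₀, hbig⟩ := hall
  have hval : P.1 (e m₀) = exp n := by
    refine le_antisymm (hle m₀ hm₀) ?_
    have h0 : e m₀ ≠ 0 := fun h => by rw [h, map_zero] at hbig; exact not_lt_zero' hbig
    rw [val_eq_exp_neg_ord P h0] at hbig ⊢
    rw [exp_lt_exp] at hbig
    rw [exp_le_exp]; omega
  let W₁ : Submodule k M :=
    { carrier := {m | m ∈ W ∧ P.1 (e m) ≤ exp (n - 1)}
      zero_mem' := ⟨zero_mem _, by rw [map_zero, map_zero]; exact zero_le⟩
      add_mem' := fun {a b} ha hb => ⟨add_mem ha.1 hb.1, by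
        rw [map_add]; exact (P.1.map_add _ _).trans (max_le ha.2 hb.2)⟩
      smul_mem' := fun c a ha => ⟨Submodule.smul_mem _ c ha.1, by
        rw [map_smul, Algebra.smul_def, map_mul]
        exact (mul_le_of_le_one_left' (P.2.1 c)).trans ha.2⟩ }
  refine ⟨W₁, fun m hm => hm.1, ?_, fun m hm => hm.2⟩
  haveI : FiniteDimensional k W₁ := Submodule.finiteDimensional_of_le (fun m hm => hm.1 : W₁ ≤ W)
  have hle' : W ≤ W₁ ⊔ Submodule.span k {m₀} := by
    intro m hm
    have hr : P.1 (e m / e m₀) ≤ 1 := by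
      rw [map_div₀, hval]
      exact (div_le_one₀ exp_pos).mpr (hle m hm)
    obtain ⟨c, hc⟩ := exists_const_sub_lt_one (deg_eq_one_of_isAlgClosed hF P) hr
    refine Submodule.mem_sup.mpr ⟨m - c • m₀, ⟨sub_mem hm (Submodule.smul_mem _ c hm₀), ?_⟩,
      c • m₀, Submodule.smul_mem _ c (Submodule.mem_span_singleton_self _), sub_add_cancel _ _⟩
    rw [map_sub, map_smul, Algebra.smul_def]
    have h0 : e m₀ ≠ 0 := ne_zero_of_val_eq hval
    rw [show e m - algebraMap k K c * e m₀ = (e m / e m₀ - algebraMap k K c) * e m₀ by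
      field_simp, map_mul, hval]
    refine (mul_le_mul' (lt_one_iff_le_exp_neg_one.mp hc) le_rfl).trans_eq ?_
    rw [← exp_add]; congr 1; ring
  have h1 := Submodule.finrank_mono hle'
  have h2 := Submodule.finrank_add_le_finrank_add_finrank W₁ (Submodule.span k {m₀})
  have h3 := finrank_span_le_card (R := k) ({m₀} : Set M)
  simp only [Set.toFinset_singleton, Finset.card_singleton] at h3
  omega

variable (hg : 3 ≤ genus k K) (hnh : ∀ D : Divisor k K, D.deg = 2 → ell D ≤ 1)
  {C : Divisor k K} (hC : IsCanonical k K C)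

include hg hnh hC in
/-- An adele whose products with all canonical functions are principal is principal. -/
theorem adele_principal (n : ℕ) (a : Place k K → K)
    (ha : ∀ x ∈ L C, ∃ f : K, ∀ P, P.1 (x * a P - f) ≤ exp (-(n • C) P)) :
    ∃ f : K, ∀ P, P.1 (a P - f) ≤ exp (-((n + 1) • C) P) := by
  classical
  have hd1 : ∀ P : Place k K, P.deg = 1 := deg_eq_one_of_isAlgClosed hF
  have hdC := deg_canonical hK hC
  have hlC := ell_canonical hK hC
  have hgT : (3 : ℤ) ≤ genus k K := by exact_mod_cast hg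
  haveI := (hF).finiteDimensional_L C
  haveI := (hF).finiteDimensional_L (-(n • C))
  -- the space of lifted canonical functions
  let S : Submodule k (K × K) :=
    { carrier := {v | v.2 ∈ L C ∧ ∀ P, P.1 (v.2 * a P - v.1) ≤ exp (-(n • C) P)}
      zero_mem' := ⟨zero_mem _, fun P => by simp⟩
      add_mem' := fun {v w} hv hw => ⟨add_mem hv.1 hw.1, fun P => by
        rw [Prod.snd_add, Prod.fst_add, add_mul, add_sub_add_comm]
        exact (P.1.map_add _ _).trans (max_le (hv.2 P) (hw.2 P))⟩
      smul_mem' := fun c v hv => ⟨Submodule.smul_mem _ c hv.1, fun P => by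
        rw [Prod.smul_snd, Prod.smul_fst, smul_mul_assoc, ← smul_sub, Algebra.smul_def, map_mul]
        exact (mul_le_of_le_one_left' (P.2.1 c)).trans (hv.2 P)⟩ }
  let π : S →ₗ[k] L C := ((LinearMap.snd k K K).comp S.subtype).codRestrict _ fun v => v.2.1
  have hπ : Function.Surjective π := fun x => by
    obtain ⟨f, hf⟩ := ha x x.2
    exact ⟨⟨(f, x), x.2, hf⟩, rfl⟩
  let ι : L (-(n • C)) →ₗ[k] LinearMap.ker π :=
    { toFun := fun f => ⟨⟨((f : K), 0), zero_mem _, fun P => by
          rw [zero_mul, zero_sub, Valuation.map_neg]; exact f.2 P⟩, Subtype.ext rfl⟩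
      map_add' := fun f g => Subtype.ext (Subtype.ext (Prod.ext rfl (add_zero 0).symm))
      map_smul' := fun c f => Subtype.ext (Subtype.ext (Prod.ext rfl (smul_zero c).symm)) }
  have hι : Function.Bijective ι := by
    refine ⟨fun f g h => Subtype.ext (congrArg (fun v : LinearMap.ker π => v.1.1.1) h), fun v => ?_⟩
    have h2 : v.1.1.2 = 0 := congrArg Subtype.val v.2
    refine ⟨⟨v.1.1.1, fun P => ?_⟩, Subtype.ext (Subtype.ext (Prod.ext rfl h2.symm))⟩
    have := v.1.2.2 P
    rwa [h2, zero_mul, zero_sub, Valuation.map_neg] at this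
  haveI : Module.Finite k (LinearMap.ker π) := Module.Finite.equiv (LinearEquiv.ofBijective ι hι)
  haveI : Module.Finite k (S ⧸ LinearMap.ker π) :=
    Module.Finite.equiv (LinearMap.quotKerEquivOfSurjective π hπ).symm
  haveI : Module.Finite k S := Module.Finite.of_submodule_quotient (LinearMap.ker π)
  have hSdim : Module.finrank k S = genus k K + ell (-(n • C)) := by
    have h1 := LinearMap.finrank_range_add_finrank_ker π
    rw [LinearMap.range_eq_top.mpr hπ, finrank_top, ← (LinearEquiv.ofBijective ι hι).finrank_eq] at h1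
    rw [← hlC]
    exact h1.symm
  -- a member vanishing at a place
  obtain ⟨P₀⟩ := (hF).nonempty_place
  obtain ⟨S₁, hS₁, hS₁d, hS₁x⟩ := drop_one hK S (LinearMap.snd k K K) P₀ (C P₀)
    fun v hv => hv.1 P₀
  haveI : FiniteDimensional k S₁ := Submodule.finiteDimensional_of_le hS₁
  let e₀ : K × K →ₗ[k] K := (LinearMap.mulRight k (a P₀)).comp (LinearMap.snd k K K) - LinearMap.fst k K K
  obtain ⟨S₂, hS₂, hS₂d, hS₂e⟩ := drop_one hK S₁ e₀ P₀ (-(n • C) P₀)
    fun v hv => (hS₁ hv).2 P₀
  have hS₂ne : S₂ ≠ ⊥ := fun h => by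
    rw [h, finrank_bot] at hS₂d
    omega
  obtain ⟨⟨f₀, x₀⟩, hv₀, hv₀ne⟩ := Submodule.exists_mem_ne_zero_of_ne_bot hS₂ne
  have hvS := hS₁ (hS₂ hv₀)
  have hdn : 0 ≤ (n • C).deg := by rw [deg_nsmul, hdC]; exact mul_nonneg (Int.natCast_nonneg n) (by omega)
  have hx₀ : x₀ ≠ 0 := by
    rintro rfl
    have hf : f₀ ∈ L (-(n • C) - Finsupp.single P₀ 1) := fun P => by
      by_cases hP : P₀ = P
      · subst hP
        have := hS₂e _ hv₀
        simp only [e₀, LinearMap.sub_apply, LinearMap.comp_apply, LinearMap.snd_apply,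
          LinearMap.fst_apply, map_zero, zero_sub, Valuation.map_neg] at this
        rwa [Finsupp.sub_apply, Finsupp.single_eq_same]
      · rw [Finsupp.sub_apply, Finsupp.single_eq_of_ne (Ne.symm hP), sub_zero]
        have := hvS.2 P
        rwa [zero_mul, zero_sub, Valuation.map_neg] at this
    have hdeg : (-(n • C) - Finsupp.single P₀ 1).deg < 0 := by
      rw [deg_sub_single hK, deg_neg]; omega
    have h0 := (hF).ell_eq_zero_of_deg_neg hdeg
    haveI := (hF).finiteDimensional_L (-(n • C) - Finsupp.single P₀ 1)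
    rw [ell, Submodule.finrank_eq_zero] at h0
    rw [h0, Submodule.mem_bot] at hf
    exact hv₀ne (Prod.ext hf rfl)
  set C' := C + FunFld.div k x₀ with hC'
  have hC'P : ∀ P, C' P = C P + P.ord x₀ := fun P => by
    rw [hC', Finsupp.add_apply, (hF).div_apply]
  have hC'0 : ∀ P, 0 ≤ C' P := fun P => by
    have := hvS.1 P
    rw [val_le_exp_iff P hx₀] at this
    rw [hC'P]; omega
  -- the divisor of the sub-line through the member
  let e : Place k K → K := fun P => x₀ * a P - f₀
  let dfun : Place k K → ℤ := fun P =>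
    if e P = 0 then C' P else min (C' P) (-(n • C) P + P.ord (e P))
  have hd0 : ∀ P, 0 ≤ dfun P := fun P => by
    by_cases h : e P = 0
    · simp only [dfun, if_pos h]; exact hC'0 P
    · simp only [dfun, if_neg h]
      have := hvS.2 P
      rw [val_le_exp_iff P h] at this
      exact le_min (hC'0 P) (by omega)
  have hdle : ∀ P, dfun P ≤ C' P := fun P => by
    by_cases h : e P = 0
    · simp only [dfun, if_pos h, le_refl]
    · simp only [dfun, if_neg h]; exact min_le_left _ _
  have hfin : (Function.support dfun).Finite := C'.support.finite_toSet.subset fun P hP => by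
    rw [Finset.mem_coe, Finsupp.mem_support_iff]
    intro h0
    have := hd0 P
    have := hdle P
    exact hP (by omega)
  let D : Divisor k K := Finsupp.ofSupportFinite dfun hfin
  have hD : ∀ P, D P = dfun P := fun P => rfl
  have hDx : ∀ P, P.1 x₀ ≤ exp (C P - D P) := fun P => by
    rw [val_le_exp_iff P hx₀, hD]
    have := hdle P
    rw [hC'P] at this
    omega
  have hDe : ∀ P, P.1 (e P) ≤ exp (-(n • C) P - D P) := fun P => by
    by_cases h : e P = 0
    · rw [h, map_zero]; exact zero_le
    · rw [val_le_exp_iff P h, hD]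
      simp only [dfun, if_neg h]
      have := min_le_right (C' P) (-(n • C) P + P.ord (e P))
      omega
  have hDeq : ∀ P, ∀ h : K, P.1 (h * x₀) ≤ exp (C P) → P.1 (h * e P) ≤ exp (-(n • C) P) →
      P.1 h ≤ exp (D P) := fun P h h1 h2 => by
    rcases eq_or_ne h 0 with rfl | hh
    · rw [map_zero]; exact zero_le
    rw [val_le_exp_iff P hh, hD]
    rw [val_le_exp_iff P (mul_ne_zero hh hx₀), ord_mul P hh hx₀] at h1
    by_cases he : e P = 0
    · simp only [dfun, if_pos he, hC'P]; omega
    · simp only [dfun, if_neg he, hC'P]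
      rw [val_le_exp_iff P (mul_ne_zero hh he), ord_mul P hh he] at h2
      rcases min_choice (C P + P.ord x₀) (-(n • C) P + P.ord (e P)) with hm | hm <;> rw [hm] <;> omega
  have hDpos : 1 ≤ D P₀ := by
    have h1 := hS₁x _ (hS₂ hv₀)
    have h2 := hS₂e _ hv₀
    simp only [LinearMap.snd_apply] at h1
    rw [val_le_exp_iff P₀ hx₀] at h1
    rw [hD]
    by_cases he : e P₀ = 0
    · simp only [dfun, if_pos he, hC'P]; omega
    · simp only [dfun, if_neg he, hC'P]
      have h2' : P₀.1 (e P₀) ≤ exp (-(n • C) P₀ - 1) := h2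
      rw [val_le_exp_iff P₀ he] at h2'
      exact le_min (by omega) (by omega)
  -- the two sides
  haveI := (hF).finiteDimensional_L D
  haveI := (hF).finiteDimensional_L (C - n • C - D)
  let Δ : S →ₗ[k] L (C - n • C - D) :=
    (((LinearMap.mulRight k x₀).comp (LinearMap.fst k K K) -
      (LinearMap.mulLeft k f₀).comp (LinearMap.snd k K K)).comp S.subtype).codRestrict _ fun v P => by
      change P.1 (v.1.1 * x₀ - f₀ * v.1.2) ≤ _
      rw [show v.1.1 * x₀ - f₀ * v.1.2 = v.1.2 * e P - (v.1.2 * a P - v.1.1) * x₀ by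
        simp only [e]; ring]
      refine Valuation.map_sub_le _ ?_ ?_ <;> rw [map_mul]
      · refine (mul_le_mul' (v.2.1 P) (hDe P)).trans_eq ?_
        rw [← exp_add]; congr 1
        simp only [Finsupp.sub_apply, Finsupp.neg_apply]; ring
      · refine (mul_le_mul' (v.2.2 P) (hDx P)).trans_eq ?_
        rw [← exp_add]; congr 1
        simp only [Finsupp.sub_apply, Finsupp.neg_apply]; ring
  have hker : ∀ v : LinearMap.ker Δ, v.1.1.2 / x₀ ∈ L D ∧ v.1.1.1 = v.1.1.2 / x₀ * f₀ := fun v => by
    have h0 : v.1.1.1 * x₀ - f₀ * v.1.1.2 = 0 :=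
      congrArg Subtype.val (LinearMap.mem_ker.mp v.2)
    have h1 : v.1.1.1 = v.1.1.2 / x₀ * f₀ := by
      field_simp
      linear_combination h0
    refine ⟨fun P => hDeq P _ ?_ ?_, h1⟩
    · rw [div_mul_cancel₀ _ hx₀]; exact v.1.2.1 P
    · have : v.1.1.2 / x₀ * e P = v.1.1.2 * a P - v.1.1.1 := by
        rw [h1]; simp only [e]; field_simp
      rw [this]; exact v.1.2.2 P
  let Ψ : LinearMap.ker Δ →ₗ[k] L D :=
    ((LinearMap.mulRight k x₀⁻¹).comp ((LinearMap.snd k K K).comp
      (S.subtype.comp (LinearMap.ker Δ).subtype))).codRestrict _ fun v => by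
        simpa [div_eq_mul_inv] using (hker v).1
  have hΨ : Function.Injective Ψ := fun v w h => by
    have h2 : v.1.1.2 * x₀⁻¹ = w.1.1.2 * x₀⁻¹ := congrArg Subtype.val h
    have h2' := mul_right_cancel₀ (inv_ne_zero hx₀) h2
    refine Subtype.ext (Subtype.ext (Prod.ext ?_ h2'))
    rw [(hker v).2, (hker w).2, h2']
  have hmain : genus k K + ell (-(n • C)) ≤ ell D + ell (C - n • C - D) := by
    have h1 := LinearMap.finrank_range_add_finrank_ker Δ
    have h2 := Submodule.finrank_le (LinearMap.range Δ)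
    have h3 := LinearMap.finrank_le_finrank_of_injective hΨ
    rw [hSdim] at h1
    unfold ell at *
    omega
  by_cases hfull : ∀ P, dfun P = C' P
  · refine ⟨f₀ / x₀, fun P => ?_⟩
    rw [show a P - f₀ / x₀ = e P / x₀ by simp only [e]; field_simp]
    by_cases he : e P = 0
    · rw [he, zero_div, map_zero]; exact zero_le
    have h1 := hfull P
    simp only [dfun, if_neg he, hC'P] at h1
    have h2 := min_le_right (C P + P.ord x₀) (-(n • C) P + P.ord (e P))
    rw [val_le_exp_iff P (div_ne_zero he hx₀), div_eq_mul_inv,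
      ord_mul P he (inv_ne_zero hx₀), ord_inv, succ_nsmul]
    simp only [Finsupp.neg_apply, Finsupp.add_apply] at h2 ⊢
    omega
  exfalso
  push Not at hfull
  obtain ⟨Q, hQ⟩ := hfull
  have hDle : D ≤ C' - Finsupp.single Q 1 := fun P => by
    rw [hD, Finsupp.sub_apply]
    by_cases hP : Q = P
    · subst hP
      rw [Finsupp.single_eq_same]
      have := hdle Q
      omega
    · rw [Finsupp.single_eq_of_ne (Ne.symm hP), sub_zero]; exact hdle P
  have hellD : ell D < genus k K := by
    refine lt_of_le_of_lt (Groth.CurveBridge.ell_mono hF hDle) ?_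
    have h1 := ell_sub_single_lt hK (by omega) (D := C) (Or.inr hC) (hd1 Q)
    rw [show C' - Finsupp.single Q 1 = C - Finsupp.single Q 1 + FunFld.div k x₀ by rw [hC']; abel,
      (hF).ell_add_div _ hx₀]
    omega
  have hDdeg : 1 ≤ D.deg := by
    have hle : Finsupp.single P₀ 1 ≤ D := fun P => by
      by_cases hP : P₀ = P
      · subst hP; rw [Finsupp.single_eq_same]; exact hDpos
      · rw [Finsupp.single_eq_of_ne (Ne.symm hP), hD]; exact hd0 P
    have := deg_mono hle
    rw [deg_single, hd1] at this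
    simpa using this
  rcases n with _ | n
  · rw [zero_nsmul, sub_zero, neg_zero, ell_zero_eq hK] at hmain
    have hr := Groth.FunFld1.riemann_roch hK hC D
    have hup : D.deg < 2 * (genus k K : ℤ) - 2 := by
      have h1 := deg_mono hDle
      rw [deg_sub_single hK, hC', deg_add, (hF).deg_div, hdC] at h1
      omega
    have hne : L D ≠ ⊥ := fun h => by
      have h0 : ell D = 0 := by unfold ell; rw [h, finrank_bot]
      omega
    have hne' : L (C - D) ≠ ⊥ := fun h => by
      have h0 : ell (C - D) = 0 := by unfold ell; rw [h, finrank_bot]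
      omega
    have hcl := Groth.CurveBridge.clifford hK hC hne hne'
    obtain ⟨N, hNd, hNl, -⟩ := Groth.CurveBridge.CliffordEquality.clifford_eq hK hC (D := D) (by omega) hup (by omega)
    have := hnh N hNd
    omega
  · have hneg : (C - (n + 1) • C - D).deg < 0 := by
      rw [deg_sub, deg_sub, deg_nsmul, hdC]
      push_cast
      nlinarith
    rw [(hF).ell_eq_zero_of_deg_neg hneg] at hmain
    omega

include hg hnh hC in
/-- **Noether's theorem.** -/
theorem mul_surjective (n : ℕ) : L ((n + 1) • C + C) ≤ L ((n + 1) • C) * L C := by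
  classical
  set B := (n + 1) • C with hB
  obtain ⟨ω, hω0, hω⟩ := hC
  have hC' : IsCanonical k K C := ⟨ω, hω0, hω⟩
  intro z₀ hz₀
  by_contra hzn
  obtain ⟨l, hlz, hlW⟩ := Submodule.exists_dual_map_eq_bot_of_notMem hzn inferInstance
  have hl : ∀ w ∈ L B * L C, l w = 0 := fun w hw => by
    have : l w ∈ (L B * L C).map l := Submodule.mem_map_of_mem hw
    rwa [hlW, Submodule.mem_bot] at this
  haveI := (hF).finiteDimensional_L (B + C)
  let Φ : L (B + C) →ₗ[k] Module.Dual k (adele k K) := ((hF).mulWL ω).comp (L (B + C)).subtype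
  have hΦ : Function.Injective Φ :=
    ((hF).mulWL_injective hω0).comp Subtype.val_injective
  let Ψ : adele k K →ₗ[k] Module.Dual k (L (B + C)) := Φ.flip
  have hΨ : Function.Surjective Ψ := LinearMap.range_eq_top.mp (by
    have hco : (LinearMap.range Ψ).dualCoannihilator = ⊥ := by
      refine (Submodule.eq_bot_iff _).mpr fun z hz => hΦ ?_
      rw [map_zero]
      ext b
      exact (Submodule.mem_dualCoannihilator _).mp hz (Ψ b) (LinearMap.mem_range_self _ b)
    have h1 := Subspace.finrank_add_finrank_dualCoannihilator_eq (LinearMap.range Ψ)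
    rw [hco, finrank_bot, add_zero] at h1
    exact Submodule.eq_top_of_finrank_eq (h1.trans Subspace.dual_finrank_eq.symm))
  obtain ⟨a, ha⟩ := hΨ (l.comp (L (B + C)).subtype)
  have hω' : ω ∈ WD C := (hω C).mpr le_rfl
  have hprin : ∀ x ∈ L C, ∃ f : K, ∀ P, P.1 (x * (a : Place k K → K) P - f) ≤ exp (-(n • C) P) := by
    intro x hx
    let b : adele k K := ⟨x • (a : Place k K → K), (hF).smul_mem_adele x a.2⟩
    have hb : b ∈ ADK (-(n • C)) := by
      refine (Subspace.forall_mem_dualAnnihilator_apply_eq_zero_iff (ADK (-(n • C))) b).mp fun η hη => ?_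
      obtain ⟨y, ⟨hy, rfl⟩, -⟩ := existsUnique_mulW hK hω hη
      have hyB : y ∈ L B := by
        rwa [sub_neg_eq_add, add_comm, ← succ_nsmul] at hy
      have hyx : y * x ∈ L B * L C := Submodule.mul_mem_mul hyB hx
      have hyxT : y * x ∈ L (B + C) := fun P => by
        rw [map_mul, Finsupp.add_apply, exp_add]
        exact mul_le_mul' (hyB P) (hx P)
      have h1 := LinearMap.congr_fun ha ⟨y * x, hyxT⟩
      change (hF).mulWL ω y b = 0
      refine Eq.trans ?_ (h1.trans (hl _ hyx))
      change _ = (hF).mulWL ω (y * x) a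
      rw [IsFF.mulWL_apply, IsFF.mulWL_apply, mulW_apply, mulW_apply]
      congr 1
      exact Subtype.ext (mul_smul y x (a : Place k K → K)).symm
    rw [ADK, Submodule.mem_comap] at hb
    obtain ⟨v, hv, _, ⟨f, rfl⟩, huv⟩ := Submodule.mem_sup.mp hb
    refine ⟨f, fun P => ?_⟩
    have : v P = x * (a : Place k K → K) P - f := by
      have := congrFun huv P
      simp only [Pi.add_apply, diag_apply] at this
      rw [eq_sub_iff_add_eq]
      exact this
    rw [← this]
    exact hv P
  obtain ⟨f, hf⟩ := adele_principal hK hg hnh hC' n _ hprin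
  apply hlz
  rw [show l z₀ = Ψ a ⟨z₀, hz₀⟩ from (LinearMap.congr_fun ha ⟨z₀, hz₀⟩).symm]
  change (hF).mulWL ω z₀ a = 0
  have hz := mulW_mem_WD hz₀ (fun _ => (hF).smul_mem_adele z₀) hω'
  rw [sub_add_cancel_right] at hz
  refine (mem_WD_iff.mp hz) a ?_
  rw [ADK, Submodule.mem_comap]
  refine Submodule.mem_sup.mpr ⟨fun P => (a : Place k K → K) P - f, fun P => ?_, diag k K f,
    LinearMap.mem_range_self _ f, funext fun P => ?_⟩
  · exact hf P
  · simp [diag_apply]

end Groth.CliffIndex.Noether
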