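import Groth.Agent.CliffIndex.Noether
import Groth.Agent.CliffIndex.GenusNine
import Groth.Agent.CurveBridge.Omega
import Groth.Agent.CurveBridge.VeryAmple
import Groth.Agent.PicAux.TensorLift

/-!
Multiplication of canonical sections on non-hyperelliptic curves.
-/

set_option linter.style.haveILetI false
set_option linter.unusedSectionVars false

universe u

open CategoryTheory AlgebraicGeometry Opposite TopologicalSpace WithZero
open Groth.PicAux Groth.CurveBridge Groth.FunFld1 Groth.PropsBasic.Ample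

namespace Groth.CliffIndex.NoetherCurve

variable {k : Type u} [Field k] [IsAlgClosed k] {X : Scheme.{u}} [X.Over (Spec (CommRingCat.of k))]
  [IsIntegral X] [IsProper (X ↘ Spec (CommRingCat.of k))] (h : IsRegCurve X)
  {M N : X.Modules} {φ : M ⟶ constK X} {ψ : N ⟶ constK X}
  {A B : FunFld.Divisor k X.functionField}
include h

/-- A section for a member of the Riemann–Roch space. -/
theorem exists_section (hM : PicF.IsInvertible M) (hφ : IsDivEmb h φ A) {z : X.functionField}
    (hz : z ∈ FunFld.L A) : ∃ t : Γ(M, (⊤ : X.Opens)), zv φ t = z := by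
  haveI := hφ.1
  obtain ⟨t, ht⟩ := exists_section_of_inStalk φ ⊤ z fun y _ => by
    by_cases hy : y = genericPoint X
    · subst hy; exact inStalk_generic φ hM _
    · exact (hφ.2 ⟨y, (isClosed_singleton_iff X h.dim y).mpr hy⟩ _).mpr (hz _)
  exact ⟨t, ht trivial⟩

/-- Generation of functions gives surjectivity on sections. -/
theorem ptenUnit_surjective (hM : PicF.IsInvertible M) (hN : PicF.IsInvertible N)
    (hφ : IsDivEmb h φ A) (hψ : IsDivEmb h ψ B)
    (hgen : FunFld.L (A + B) ≤ FunFld.L A * FunFld.L B) :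
    Function.Surjective (ptenUnit M N ⊤) := by
  obtain ⟨χ, hχ, hval⟩ := exists_divEmb_tensor_val h hM hN hφ hψ
  haveI := hχ.1
  have key : ∀ w ∈ FunFld.L A * FunFld.L B, ∃ p, zv χ (ptenUnit M N ⊤ p) = w := by
    intro w hw
    induction hw using Submodule.mul_induction_on' with
    | mem_mul_mem a ha b hb =>
      obtain ⟨s, hs⟩ := exists_section h hM hφ ha
      obtain ⟨t, ht⟩ := exists_section h hN hψ hb
      exact ⟨s ⊗ₜ t, (hval s t).trans (congrArg₂ (· * ·) hs ht)⟩
    | add a _ b _ ha hb =>
      obtain ⟨p, hp⟩ := ha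
      obtain ⟨q, hq⟩ := hb
      exact ⟨p + q, by rw [map_add, ← hp, ← hq]; unfold zv; rw [map_add, map_add]⟩
  intro s
  obtain ⟨p, hp⟩ := key _ (hgen (zv_mem h hχ s))
  exact ⟨p, Groth.CurveBridge.app_injective χ ⊤ (kv_injective _ hp)⟩

/-- Noether's theorem for an invertible module with canonical numerics. -/
theorem surjective_pow {K : X.Modules} (hK : PicF.IsInvertible K)
    (h0 : Module.finrank k (Coh.HH X K 0) = Curv2.genus k X)
    (hd : Curv2.deg k X K 1 = 2 * (Curv2.genus k X : ℤ) - 2)
    (hg : 3 ≤ Curv2.genus k X)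
    (hnh : ∀ L : X.Modules, PicF.IsInvertible L → Curv2.deg k X L 1 = 2 →
      Module.finrank k (Coh.HH X L 0) ≤ 1) (m : ℕ) :
    Function.Surjective (ptenUnit (CohB1.tensorPow K m) K ⊤) := by
  have hFK := isFunctionField (k := k) (X := X) h.dim
  have hF := isFF k X h.dim
  obtain ⟨φK, C, hφK, c0, cd, -⟩ := exists_divEmb h hFK hK
  have hC := isCanonical_of_numerics h hFK c0 cd h0 hd
  have hnh' : ∀ D : FunFld.Divisor k X.functionField, D.deg = 2 → FunFld.ell D ≤ 1 := fun D hD => by
    obtain ⟨L, φ, U₀, hU₀, e₀, hL, -, hm, hDD⟩ := exists_invertible_embedding (k := k) h D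
    obtain ⟨n0, nd, -⟩ := numerics_of_divEmb h hFK hL (φ := φ) ⟨hm, hDD⟩
    rw [← n0]
    exact hnh L hL (nd.trans hD)
  obtain ⟨χ, μ, hI, hμ, hχ⟩ := DoubleCover.exists_divEmb_tensorPow h hFK hK hφK m
  refine ptenUnit_surjective h hI hK hχ hφK fun z hz => ?_
  have hshift : ∀ (E : FunFld.Divisor k X.functionField) (x : X.functionField),
      x ∈ FunFld.L (E + FunFld.div k μ) ↔ x * μ ∈ FunFld.L E := fun E x => by
    refine forall_congr' fun P => ?_
    rw [map_mul, val_eq_exp_neg_ord P hμ, Finsupp.add_apply, hF.div_apply, exp_add, exp_neg,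
      ← div_eq_mul_inv, div_le_iff₀ exp_pos]
  have hzμ : z * μ ∈ FunFld.L (m • C) * FunFld.L C := by
    have h1 : z * μ ∈ FunFld.L (m • C + C) := by
      rw [← hshift, add_right_comm]; exact hz
    rcases m with _ | n
    · rw [zero_nsmul, zero_add] at h1
      rw [zero_nsmul, ← one_mul (z * μ)]
      refine Submodule.mul_mem_mul ?_ h1
      intro P
      rw [map_one, Finsupp.coe_zero, Pi.zero_apply, exp_zero]
    · exact Noether.mul_surjective hFK (by rw [← genus_eq h hFK]; exact hg) hnh' hC n h1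
  have key : ∀ w ∈ FunFld.L (m • C) * FunFld.L C,
      w * μ⁻¹ ∈ FunFld.L (m • C + FunFld.div k μ) * FunFld.L C := by
    intro w hw
    induction hw using Submodule.mul_induction_on' with
    | mem_mul_mem a ha b hb =>
      rw [mul_right_comm]
      refine Submodule.mul_mem_mul ((hshift _ _).mpr ?_) hb
      rwa [inv_mul_cancel_right₀ hμ]
    | add a _ b _ ha hb => rw [add_mul]; exact add_mem ha hb
  have := key _ hzμ
  rwa [mul_inv_cancel_right₀ hμ] at this

end Groth.CliffIndex.NoetherCurve
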