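import Groth.Agent.CliffIndex.GenusNine

/-!
Clifford index one: trigonal, or a smooth plane quintic.
-/

set_option linter.style.haveILetI false
set_option linter.unusedSectionVars false

namespace Groth.CliffIndex

open WithZero FunFld Groth.FunFld1

variable {k K : Type*} [Field k] [Field K] [Algebra k K] [IsAlgClosed k] (hK : IsFunctionField k K)
include hK

/-- Clifford index one means trigonal or a net of degree five without double points. -/
theorem exists_g13_or_sep (hg : 4 ≤ genus k K) (hc : CliffGe k K 1)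
    (hex : ∃ D : Divisor k K, 2 ≤ ell D ∧ 2 ≤ (ell D : ℤ) - (D.deg + 1 - genus k K) ∧
      D.deg = 2 * (ell D : ℤ) - 1) :
    (∃ A : Divisor k K, 2 ≤ ell A ∧ A.deg = 3) ∨
      (genus k K = 6 ∧ ∃ D : Divisor k K, ell D = 3 ∧
        ∀ P Q, ell (D - Finsupp.single P 1 - Finsupp.single Q 1) + 2 = ell D) := by
  classical
  have hF := IsFF.of_isFunctionField hK
  have hgz : (4 : ℤ) ≤ genus k K := by exact_mod_cast hg
  obtain ⟨P₀⟩ := hF.nonempty_place
  -- the smallest extremal dimension
  have hcand : ∃ r : ℕ, ∃ D : Divisor k K, ell D = r + 1 ∧ 1 ≤ r ∧ D.deg = 2 * (r : ℤ) + 1 ∧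
      D.deg + 1 ≤ genus k K := by
    obtain ⟨D, h2, h1, hd⟩ := hex
    by_cases hlow : D.deg + 1 ≤ genus k K
    · exact ⟨ell D - 1, D, by omega, by omega, by omega, hlow⟩
    · obtain ⟨C, hC⟩ := exists_isCanonical hK
      have hr := Groth.FunFld1.riemann_roch hK hC D
      have hdC := Groth.FunFld1.deg_canonical hK hC
      refine ⟨ell (C - D) - 1, C - D, by omega, by omega, ?_, ?_⟩ <;> rw [deg_sub] <;> omega
  obtain ⟨D, hDl, hr1, hDd, hDg⟩ := Nat.find_spec hcand
  have hmin := fun m (hm : m < Nat.find hcand) => Nat.find_min hcand hm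
  generalize Nat.find hcand = r at hDl hr1 hDd hDg hmin
  obtain hr | hr | hr : r = 1 ∨ r = 2 ∨ 3 ≤ r := by omega
  · exact Or.inl ⟨D, by omega, by omega⟩
  · by_cases hall : ∀ P Q, ell (D - Finsupp.single P 1 - Finsupp.single Q 1) ≤ 1
    · refine Or.inr ⟨?_, D, by omega, fun P Q => ?_⟩
      · by_contra hne
        obtain ⟨P, Q, hPQ⟩ := exists_pencil_of_net hK (D := D) (by omega) (by
          rw [show D.deg = 5 by omega]; omega)
        have := hall P Q
        omega
      · have h1 := ell_le_single_add hK D P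
        have h2 := ell_le_single_add hK (D - Finsupp.single P 1) Q
        have := hall P Q
        omega
    · push Not at hall
      obtain ⟨P, Q, hPQ⟩ := hall
      exact Or.inl ⟨_, hPQ, by rw [deg_sub_single hK, deg_sub_single hK]; omega⟩
  -- a pencil of least degree
  have hpen : ∃ f : ℕ, ∃ A : Divisor k K, 2 ≤ ell A ∧ A.deg = (f : ℤ) ∧ f ≤ r + 2 := by
    have hle : D - (r - 1) • Finsupp.single P₀ (1 : ℤ) ≤ D :=
      sub_le_self _ (nsmul_nonneg (Finsupp.single_nonneg.mpr zero_le_one) _)
    have h1 := hF.ell_sub_le hle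
    have hd : (D - (r - 1) • Finsupp.single P₀ (1 : ℤ)).deg = (r : ℤ) + 2 := by
      rw [deg_sub, deg_nsmul, deg_single, deg_eq_one_of_isAlgClosed hF P₀]
      omega
    rw [hd, hDd] at h1
    exact ⟨r + 2, D - (r - 1) • Finsupp.single P₀ (1 : ℤ), by omega, by rw [hd]; push_cast; ring, le_rfl⟩
  obtain ⟨F, hF2, hFd, hfr⟩ := Nat.find_spec hpen
  have hminf := fun m (hm : m < Nat.find hpen) => Nat.find_min hpen hm
  generalize Nat.find hpen = f at hF2 hFd hfr hminf
  have hlow : ∀ A : Divisor k K, 2 ≤ ell A → (f : ℤ) ≤ A.deg := fun A hA => by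
    by_contra hlt
    have hne : L A ≠ ⊥ := fun h => by unfold ell at hA; rw [h, finrank_bot] at hA; omega
    have h0 := Groth.FunFld1.deg_ge_of_ne_bot hK hne
    exact hminf A.deg.toNat (by omega) ⟨A, hA, by omega, by omega⟩
  have hcl := hc F hF2 (by omega)
  obtain hf | hf : f = 3 ∨ 4 ≤ f := by omega
  · exact Or.inl ⟨F, hF2, by omega⟩
  exfalso
  have hbase : ∀ T : Place k K, ell (F - Finsupp.single T 1) ≤ 1 := fun T => by
    by_contra hT
    have := hlow (F - Finsupp.single T 1) (by omega)
    rw [deg_sub_single hK] at this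
    omega
  have hE2 : ell F = 2 := by
    have := ell_le_single_add hK F P₀
    have := hbase P₀
    omega
  have hp := pencil_trick hF D hE2 fun T => lt_of_le_of_lt (hbase T) (by omega)
  have hG : ell (D - F) ≤ 1 ∨ 2 * (ell (D - F) : ℤ) ≤ 2 * r + 1 - f := by
    by_cases h2 : 2 ≤ ell (D - F)
    · right
      have hd : (D - F).deg = 2 * r + 1 - f := by rw [deg_sub]; omega
      have h1 := hc (D - F) h2 (by omega)
      by_contra hnot
      exact hmin (ell (D - F) - 1) (by omega) ⟨D - F, by omega, by omega, by omega, by omega⟩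
    · exact Or.inl (by omega)
  have hsum : (D + F).deg = 2 * r + 1 + f := by rw [deg_add]; omega
  have h3 := hc (D + F) (by omega) (by omega)
  omega

end Groth.CliffIndex
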