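import Groth.Agent.CliffIndex.GenusNine

/-!
Numerics of pentagonal pencils on curves of genus nine and Clifford index three.
-/

set_option linter.style.haveILetI false
set_option linter.unusedSectionVars false

namespace Groth.CliffIndex

open WithZero FunFld Groth.FunFld1

variable {k K : Type*} [Field k] [Field K] [Algebra k K] [IsAlgClosed k]
  (hK : IsFunctionField k K) (hg : genus k K = 9) (hc : CliffGe k K 3) {E : Divisor k K}
  (h2 : ell E = 2) (hd : E.deg = 5) (hb : ∀ P : Place k K, ell (E - Finsupp.single P 1) < ell E)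
include hK hg hc h2 hd hb

/-- The residual class of a pencil in a net of degree seven has exactly one section. -/
theorem ell_net_sub {H : Divisor k K} (h3 : ell H = 3) (hdH : H.deg = 7) : ell (H - E) = 1 := by
  have hp := pencil_trick (IsFF.of_isFunctionField hK) H h2 hb
  have h1 : (H - E).deg = 2 := by rw [deg_sub]; omega
  have h4 : (H + E).deg = 12 := by rw [deg_add]; omega
  have hup : ell (H - E) ≤ 1 := by
    rcases low_bound hK hg hc (H - E) (by omega) with h' | h' <;> omega
  by_contra hne
  rcases low_bound hK hg hc (H + E) (by omega) with h' | h' <;> omega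

/-- Two different pentagonal pencils. -/
theorem ell_add_pencils {E' : Divisor k K} (h2' : ell E' = 2) (hd' : E'.deg = 5)
    (h0 : ell (E' - E) = 0) : ell (E' + E) = 4 := by
  have hp := pencil_trick (IsFF.of_isFunctionField hK) E' h2 hb
  have h4 : (E' + E).deg = 10 := by rw [deg_add]; omega
  rcases low_bound hK hg hc (E' + E) (by omega) with h' | h' <;> omega

/-- The multiples of a pentagonal pencil. -/
theorem ell_multiples :
    (ell (2 • E) = 3 ∨ ell (2 • E) = 4) ∧ (ell (3 • E) = 7 ∨ ell (3 • E) = 8) ∧
      (ell (2 • E) = 3 → ell (3 • E) = 7) := by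
  have hF := IsFF.of_isFunctionField hK
  have hp := pencil_trick hF E h2 hb
  rw [sub_self, ← two_nsmul, ell_zero_eq hK] at hp
  have hd2 : (2 • E).deg = 10 := by rw [deg_nsmul]; push_cast; omega
  have hd3 : (3 • E).deg = 15 := by rw [deg_nsmul]; push_cast; omega
  have hA : ell (2 • E) = 3 ∨ ell (2 • E) = 4 := by
    by_cases h : ell (2 • E) = 3
    · exact Or.inl h
    · rcases low_bound hK hg hc (2 • E) (by omega) with h' | h' <;> omega
  obtain ⟨C, hC⟩ := exists_isCanonical hK
  have hdC := Groth.FunFld1.deg_canonical hK hC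
  have r3 := Groth.FunFld1.riemann_roch hK hC (3 • E)
  have r2 := Groth.FunFld1.riemann_roch hK hC (2 • E)
  rw [hg] at r3 r2 hdC
  have hd1 : (C - 3 • E).deg = 1 := by rw [deg_sub, hdC, hd3]; norm_num
  have hup : ell (C - 3 • E) ≤ 1 := by
    rcases Nat.eq_zero_or_pos (ell (C - 3 • E)) with h | h
    · omega
    · have := Groth.CurveBridge.ell_le_deg_of_pos hK (D := C - 3 • E) (by omega) (by omega)
      omega
  refine ⟨hA, by omega, fun h3 => ?_⟩
  by_contra h7
  have hpos : L (C - 3 • E) ≠ ⊥ := fun hbot => by
    have : ell (C - 3 • E) = 0 := by unfold ell; rw [hbot, finrank_bot]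
    omega
  obtain ⟨x, hx, he⟩ := hF.exists_effective_of_ne_bot hpos
  have hle : ell E ≤ ell (C - 2 • E) := by
    rw [← hF.ell_add_div (C - 2 • E) hx]
    refine Groth.CurveBridge.ell_mono hF ?_
    calc E = E + 0 := (add_zero E).symm
      _ ≤ E + (C - 3 • E + FunFld.div k x) := by gcongr
      _ = C - 2 • E + FunFld.div k x := by abel
  omega

end Groth.CliffIndex
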