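import Groth.Agent.CliffIndex.Lemmas

/-!
A very ample net of degree `d ≥ 4` excludes pencils of degree two unless the genus is at most `d - 2`.
-/

set_option linter.style.haveILetI false
set_option linter.unusedSectionVars false

namespace Groth.CliffIndex

open WithZero FunFld Groth.FunFld1

variable {k K : Type*} [Field k] [Field K] [Algebra k K] [IsAlgClosed k] (hK : IsFunctionField k K)
include hK

/-- The pencil trick, iterated. -/
theorem genus_le_of_sep_of_pencil (hg : 1 ≤ genus k K) {H E : Divisor k K} (h3 : ell H = 3)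
    (hd : 0 ≤ H.deg)
    (hsep : ∀ P Q : Place k K, ell (H - Finsupp.single P 1 - Finsupp.single Q 1) + 2 = ell H)
    (hE : E.deg = 2) (h2 : 2 ≤ ell E) : (genus k K : ℤ) + 2 ≤ H.deg := by
  classical
  have hF := IsFF.of_isFunctionField hK
  have hE2 : ell E = 2 := by
    have := Groth.CurveBridge.ell_le_deg_of_pos hK hg (D := E) (by omega)
    omega
  have hb : ∀ P : Place k K, ell (E - Finsupp.single P 1) < ell E := fun P => by
    have hd1 := deg_sub_single hK E P
    have := Groth.CurveBridge.ell_le_deg_of_pos hK hg (D := E - Finsupp.single P 1) (by omega)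
    omega
  -- an effective representative of the pencil
  obtain ⟨x, hx, he⟩ := hF.exists_effective_of_ne_bot (D := E) (fun h => by
    unfold ell at h2; rw [h, finrank_bot] at h2; omega)
  set E' := E + FunFld.div k x with hE'
  have hd' : E'.deg = 2 := by rw [hE', deg_add, hF.deg_div, hE, add_zero]
  obtain ⟨P, hP⟩ : ∃ P, 0 < E' P := by
    by_contra! hno
    have h0 : E' = 0 := Finsupp.ext fun P => le_antisymm (hno P) (he P)
    rw [h0] at hd'
    simp [deg_zero] at hd'
  have he1 : 0 ≤ E' - Finsupp.single P 1 := fun Q => by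
    rw [Finsupp.sub_apply, Finsupp.coe_zero, Pi.zero_apply]
    by_cases hQ : P = Q
    · subst hQ; rw [Finsupp.single_eq_same]; omega
    · rw [Finsupp.single_eq_of_ne (Ne.symm hQ), sub_zero]; exact he Q
  obtain ⟨Q, -, hQ⟩ := effective_deg_one hF he1 (by rw [deg_sub_single hK, hd']; norm_num)
  have hHE : ell (H - E) = 1 := by
    have h1 := hsep P Q
    rw [← hF.ell_add_div (H - E) (inv_ne_zero hx), hF.div_inv]
    rw [show H - E + -FunFld.div k x = H - Finsupp.single P 1 - Finsupp.single Q 1 by
      rw [← hQ, hE']; abel]
    omega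
  have key : ∀ j : ℕ, 3 + 2 * j ≤ ell (H + j • E) ∧
      ell (H + j • E) + 2 ≤ ell (H + (j + 1) • E) := by
    intro j
    induction j with
    | zero =>
      have := pencil_trick hF H hE2 hb
      rw [zero_nsmul, add_zero, zero_add, one_nsmul]
      omega
    | succ n ih =>
      have h := pencil_trick hF (H + (n + 1) • E) hE2 hb
      rw [show H + (n + 1) • E + E = H + (n + 1 + 1) • E by rw [succ_nsmul _ (n + 1)]; abel,
        show H + (n + 1) • E - E = H + n • E by rw [succ_nsmul]; abel] at h
      omega
  have hj := (key (genus k K)).1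
  have hdeg : (H + genus k K • E).deg = H.deg + 2 * genus k K := by
    rw [deg_add, deg_nsmul, hE]; ring
  have := ell_eq_of_deg_ge hK (D := H + genus k K • E) (by rw [hdeg]; omega)
  rw [hdeg] at this
  omega

end Groth.CliffIndex
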